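import Cfsg.Agent.Lib.LocalEven.OnePointFront.Nonfull.TwoLine.Basic
import Cfsg.Agent.Lib.Solvable.FrattiniFitting
import Mathlib.GroupTheory.IndexNormal

/-!
# One member on each line: no invariant group of order four

A maximal `S`-invariant abelian subgroup of `S ⊓ K` is then cyclic of index two, inverted on its
elements of order four.  Either `u` exchanges the two classes of the other involutions, and the
class action survives in `M / K`, or a multiple `n` of `u` centralises a group of order four, and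
raising `(n k) ^ 2` to the index of that group in its centraliser gives a contradiction.
-/

set_option autoImplicit false
set_option linter.style.haveILetI false

namespace CfsgLib.LocalEven.OnePointFront.TwoLine

open Subgroup

universe w

variable {M : Type w} [Group M] [Finite M] {K : Subgroup M} {S : Sylow 2 M} {u r : M}

omit [Finite M] in
/-- A commutative 2-group with a single involution is cyclic. -/
theorem isCyclic_two_of_one {P : Type*} [Group P] [Finite P] (hP : IsPGroup 2 P)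
    (hcomm : ∀ a b : P, Commute a b) (hone : ∀ a b : P, orderOf a = 2 → orderOf b = 2 → a = b) : IsCyclic P := by
  classical
  haveI : Fact (Nat.Prime 2) := ⟨Nat.prime_two⟩
  letI := Fintype.ofFinite P
  obtain ⟨g, -, hg⟩ := Finset.exists_max_image Finset.univ (fun x : P => orderOf x) Finset.univ_nonempty
  refine ⟨g, fun x => ?_⟩
  obtain ⟨k, hk⟩ := hP x
  induction k generalizing x with
  | zero => rw [pow_zero, pow_one] at hk; rw [hk]; exact (Subgroup.zpowers g).one_mem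
  | succ k ih =>
    rw [pow_succ', pow_mul] at hk
    obtain ⟨j, hj⟩ := Subgroup.mem_zpowers_iff.1 (ih (x ^ 2) hk)
    rcases Int.even_or_odd j with ⟨i, rfl⟩ | hodd
    · -- `x g⁻ⁱ` squares to the identity
      set y := x * (g ^ i)⁻¹ with hy
      have hy2 : y * y = 1 := by
        have hc : Commute x (g ^ i)⁻¹ := hcomm _ _
        calc y * y = x * ((g ^ i)⁻¹ * x) * (g ^ i)⁻¹ := by rw [hy]; group
          _ = x * (x * (g ^ i)⁻¹) * (g ^ i)⁻¹ := by rw [hc.eq]
          _ = x ^ 2 * (g ^ i * g ^ i)⁻¹ := by rw [pow_two]; group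
          _ = 1 := by rw [← zpow_add, hj, mul_inv_cancel]
      have e : x = y * g ^ i := by rw [hy, inv_mul_cancel_right]
      rw [e]
      refine mul_mem ?_ (Subgroup.zpow_mem _ (Subgroup.mem_zpowers g) i)
      by_cases hy1 : y = 1
      · rw [hy1]; exact (Subgroup.zpowers g).one_mem
      · obtain ⟨n, hn⟩ := IsPGroup.iff_orderOf.1 hP g
        rcases n with _ | n
        · have := hg y (Finset.mem_univ _)
          rw [orderOf_eq_prime (by rw [pow_two]; exact hy2) hy1, hn, pow_zero] at this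
          omega
        · rw [hone y _ (orderOf_eq_prime (by rw [pow_two]; exact hy2) hy1)
            (orderOf_pow_orderOf_div (orderOf_pos g).ne' (hn ▸ dvd_pow_self 2 n.succ_ne_zero))]
          exact Subgroup.npow_mem_zpowers g _
    · -- `x` would have larger order than `g`
      by_cases hx1 : x = 1
      · rw [hx1]; exact (Subgroup.zpowers g).one_mem
      exfalso
      obtain ⟨n, hn⟩ := IsPGroup.iff_orderOf.1 hP g
      obtain ⟨m, hm⟩ := IsPGroup.iff_orderOf.1 hP x
      have hgj : orderOf (x ^ 2) = orderOf g := by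
        have hcop : (orderOf g).Coprime j.natAbs := by
          rw [hn]
          refine Nat.Coprime.pow_left _ ((Nat.prime_two.coprime_iff_not_dvd).2 ?_)
          exact fun h => (Int.not_even_iff_odd.2 hodd) (Int.natAbs_even.1 (even_iff_two_dvd.2 h))
        rw [← hj]
        rcases Int.natAbs_eq j with e | e
        · rw [e, zpow_natCast]; exact hcop.orderOf_pow
        · rw [e, zpow_neg, zpow_natCast, orderOf_inv]; exact hcop.orderOf_pow
      have hle := hg x (Finset.mem_univ _)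
      rw [orderOf_pow, hm] at hgj
      rcases m with _ | m
      · rw [pow_zero] at hm
        exact hx1 (orderOf_eq_one_iff.1 hm)
      · rw [Nat.gcd_eq_right (dvd_pow_self 2 m.succ_ne_zero)] at hgj
        have : 0 < 2 ^ m := Nat.two_pow_pos m
        rw [pow_succ, Nat.mul_div_cancel _ two_pos] at hgj
        rw [hm, pow_succ] at hle
        omega

/-- Between two subgroups of a 2-group normal in it there is an element central modulo the
smaller one. -/
theorem exists_central_mod {T C X : Subgroup M} (hT : IsPGroup 2 T) (hXT : X ≤ T)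
    (hnC : T ≤ normalizer (C : Set M)) (hnX : T ≤ normalizer (X : Set M)) (hCX : C < X) :
    ∃ b ∈ X, b ∉ C ∧ b * b ∈ C ∧ ∀ g ∈ T, b⁻¹ * (g * b * g⁻¹) ∈ C := by
  haveI : Fact (Nat.Prime 2) := ⟨Nat.prime_two⟩
  haveI hn : (C.subgroupOf T).Normal :=
    (normal_subgroupOf_iff_le_normalizer (hCX.le.trans hXT)).2 hnC
  haveI hn' : (X.subgroupOf T).Normal := (normal_subgroupOf_iff_le_normalizer hXT).2 hnX
  set π := QuotientGroup.mk' (C.subgroupOf T) with hπ
  set N := (X.subgroupOf T).map π with hN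
  haveI : N.Normal := hn'.map π (QuotientGroup.mk'_surjective _)
  haveI : Group.IsNilpotent (↥T ⧸ C.subgroupOf T) := (hT.to_quotient _).isNilpotent
  have hne : N ≠ ⊥ := fun e => hCX.not_ge fun x hx => by
    have : π ⟨x, hXT hx⟩ ∈ N := ⟨_, hx, rfl⟩
    rw [e, mem_bot] at this
    exact (QuotientGroup.eq_one_iff (N := C.subgroupOf T) _).1 this
  have hZne := CfsgLib.Solvable.FrattiniFitting.inf_center_ne_bot N hne
  obtain ⟨z, hz⟩ := exists_prime_orderOf_dvd_card' (G := ↥(N ⊓ center _)) 2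
    ((((hT.to_quotient _).to_subgroup (N ⊓ center _)).card_eq_or_dvd).resolve_left fun e =>
      hZne (eq_bot_of_card_eq _ e))
  obtain ⟨⟨b, hb⟩, hbX, hbe⟩ := z.2.1
  have hz2 : ((z : ↥T ⧸ C.subgroupOf T)) * z = 1 := by
    have h := congrArg Subtype.val (hz ▸ pow_orderOf_eq_one z : z ^ 2 = 1)
    simpa [pow_two] using h
  refine ⟨b, hbX, fun hbC => ?_, ?_, fun g hg => ?_⟩
  · have h1 : (z : ↥T ⧸ C.subgroupOf T) = 1 := by
      rw [← hbe]; exact (QuotientGroup.eq_one_iff _).2 hbC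
    have : z = 1 := Subtype.ext h1
    rw [this, orderOf_one] at hz
    omega
  · refine (QuotientGroup.eq_one_iff (N := C.subgroupOf T) (⟨b, hb⟩ * ⟨b, hb⟩)).1 ?_
    show π (⟨b, hb⟩ * ⟨b, hb⟩) = 1
    rw [map_mul, hbe, hz2]
  · refine (QuotientGroup.eq (s := C.subgroupOf T) (a := ⟨b, hb⟩)
      (b := ⟨g, hg⟩ * ⟨b, hb⟩ * ⟨g, hg⟩⁻¹)).1 ?_
    show π ⟨b, hb⟩ = π (⟨g, hg⟩ * ⟨b, hb⟩ * ⟨g, hg⟩⁻¹)
    rw [map_mul, map_mul, map_inv, hbe, mem_center_iff.1 z.2.2, mul_inv_cancel_right]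

namespace Hyp

variable (h : Hyp K S u r)
include h

/-- A maximal invariant abelian subgroup: cyclic and self-centralising. -/
theorem exists_cyclic (hno : ∀ e ∈ (S : Subgroup M) ⊓ K, e * e = 1 → e ≠ 1 → e ≠ r →
      ∃ g ∈ S, g * e * g⁻¹ ≠ e ∧ g * e * g⁻¹ ≠ e * r) :
    ∃ c ∈ (S : Subgroup M) ⊓ K, r ∈ zpowers c ∧
      (∀ g ∈ S, ∀ x ∈ zpowers c, g * x * g⁻¹ ∈ zpowers c) ∧
      (∀ p ∈ (S : Subgroup M) ⊓ K, Commute p c → p ∈ zpowers c) ∧
      (∀ x ∈ zpowers c, x * x = 1 → x = 1 ∨ x = r) := by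
  classical
  obtain ⟨C, ⟨hCP, hCc, hCS⟩, hmax⟩ := Set.Finite.exists_maximalFor
    (fun C : Subgroup M => Nat.card C)
    {C : Subgroup M | C ≤ (S : Subgroup M) ⊓ K ∧ (∀ x ∈ C, ∀ y ∈ C, Commute x y) ∧
      ∀ g ∈ S, ∀ x ∈ C, g * x * g⁻¹ ∈ C} (Set.toFinite _)
    ⟨⊥, bot_le, fun x hx y _ => by rw [mem_bot.1 hx]; exact Commute.one_left y,
      fun g _ x hx => by rw [mem_bot.1 hx]; simp⟩
  have hcen : ∀ p ∈ (S : Subgroup M) ⊓ K, (∀ x ∈ C, Commute x p) → p ∈ C := by
    by_contra hcon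
    push Not at hcon
    obtain ⟨p, hp, hpc, hpC⟩ := hcon
    set X := (S : Subgroup M) ⊓ K ⊓ centralizer (C : Set M) with hX
    have hlt : C < X := lt_of_le_of_ne
      (le_inf hCP fun x hx => mem_centralizer_iff.2 fun y hy => (hCc y hy x hx).eq)
      fun e => hpC (e ▸ (⟨hp, mem_centralizer_iff.2 fun y hy => (hpc y hy).eq⟩ : p ∈ X))
    obtain ⟨b, hbX, hbC, -, hbg⟩ := exists_central_mod (T := (S : Subgroup M)) S.2
      (inf_le_left.trans inf_le_left)
      (fun g hg => Coprime.mem_normalizer_of_conj_map_le fun x hx => hCS g hg x hx)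
      (fun g hg => Coprime.mem_normalizer_of_conj_map_le fun x hx => mem_inf.2
        ⟨h.conj_mem_SK hg hx.1, mem_centralizer_iff.2 fun y hy => by
          have hy' := hCS g⁻¹ ((S : Subgroup M).inv_mem hg) y hy
          rw [inv_inv] at hy'
          calc y * (g * x * g⁻¹) = g * ((g⁻¹ * y * g) * x) * g⁻¹ := by group
            _ = g * (x * (g⁻¹ * y * g)) * g⁻¹ := by rw [mem_centralizer_iff.1 hx.2 _ hy']
            _ = g * x * g⁻¹ * y := by group⟩) hlt
    have hbn : zpowers b ≤ normalizer (C : Set M) :=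
      zpowers_le.2 (centralizer_le_normalizer _ hbX.2)
    have hBc : ∀ x ∈ C ⊔ zpowers b, ∀ y ∈ C ⊔ zpowers b, Commute x y := by
      intro x hx y hy
      obtain ⟨c₁, hc₁, z₁, hz₁, rfl⟩ := (Coprime.mem_sup_of_le_normalizer hbn).1 hx
      obtain ⟨c₂, hc₂, z₂, hz₂, rfl⟩ := (Coprime.mem_sup_of_le_normalizer hbn).1 hy
      have hz : ∀ c ∈ C, ∀ z ∈ zpowers b, Commute c z := fun c hc z hz' => by
        obtain ⟨i, rfl⟩ := mem_zpowers_iff.1 hz'
        exact Commute.zpow_right (mem_centralizer_iff.1 hbX.2 c hc) i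
      have hzz : Commute z₁ z₂ := by
        obtain ⟨i, rfl⟩ := mem_zpowers_iff.1 hz₁
        obtain ⟨j, rfl⟩ := mem_zpowers_iff.1 hz₂
        exact Commute.zpow_zpow_self b i j
      exact (((hCc c₁ hc₁ c₂ hc₂).mul_right (hz c₁ hc₁ z₂ hz₂))).mul_left
        (((hz c₂ hc₂ z₁ hz₁).symm).mul_right hzz)
    have hle := hmax ⟨sup_le hCP (zpowers_le.2 hbX.1), hBc, fun g hg x hx => by
      refine (sup_le (c := (C ⊔ zpowers b).comap (MulAut.conj g).toMonoidHom)
        (fun y hy => mem_sup_left (hCS g hg y hy)) (zpowers_le.2 ?_)) hx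
      show g * b * g⁻¹ ∈ C ⊔ zpowers b
      rw [show g * b * g⁻¹ = b * (b⁻¹ * (g * b * g⁻¹)) by group]
      exact mul_mem (mem_sup_right (mem_zpowers b)) (mem_sup_left (hbg g hg))⟩
      (Subgroup.card_le_of_le le_sup_left)
    exact hbC ((Subgroup.eq_of_le_of_card_ge le_sup_left hle).ge (mem_sup_right (mem_zpowers b)))
  have hrC : r ∈ C := hcen r ⟨h.r_mem, h.r_K⟩ fun x hx => h.r_comm x (hCP hx).1
  have huniq : ∀ x ∈ C, x * x = 1 → x = 1 ∨ x = r := by
    intro e he he2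
    by_contra hne
    push Not at hne
    obtain ⟨he1, her⟩ := hne
    let E : Subgroup M :=
      { carrier := {x | x ∈ C ∧ x * x = 1}
        one_mem' := ⟨one_mem _, one_mul 1⟩
        mul_mem' := fun {x y} hx hy => ⟨mul_mem hx.1 hy.1, by
          rw [(hCc y hy.1 x hx.1).mul_mul_mul_comm, hx.2, hy.2, one_mul]⟩
        inv_mem' := fun {x} hx => by rw [inv_eq_of_mul_eq_one_right hx.2]; exact hx }
    have hconj : ∀ g ∈ S, ∀ x ∈ E, g * x * g⁻¹ ∈ E := fun g hg x hx => ⟨hCS g hg x hx.1, by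
      rw [show g * x * g⁻¹ * (g * x * g⁻¹) = g * (x * x) * g⁻¹ by group, hx.2, mul_one,
        mul_inv_cancel]⟩
    obtain ⟨g, hg, hg1, hg2⟩ := hno e (hCP he) he2 he1 her
    have hmem := h.mem_four_of_inv (E := E) (fun x hx => hCP hx.1) (fun x hx => hx.2) (fun x hx => by
      have := hconj u h.u_mem x hx
      rwa [h.u_inv] at this) (s := e) ⟨he, he2⟩ he1 her (hconj g hg e ⟨he, he2⟩) (hCc r hrC e he)
    rcases mem_four.1 hmem with k | k | k | k
    · exact he1 (conj_eq_one_iff.1 k)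
    · refine her ?_
      calc e = g⁻¹ * (g * e * g⁻¹) * g := by group
        _ = g⁻¹ * (r * g) := by rw [k, mul_assoc]
        _ = g⁻¹ * (g * r) := by rw [(h.r_comm g hg).eq]
        _ = r := inv_mul_cancel_left g r
    · exact hg1 k
    · exact hg2 k
  haveI : Fact (Nat.Prime 2) := ⟨Nat.prime_two⟩
  obtain ⟨⟨c, hc⟩, hgen⟩ := (isCyclic_two_of_one (S.2.to_le (hCP.trans inf_le_left))
    (fun a b => Subtype.ext (hCc a a.2 b b.2).eq) (fun a b ha hb => by
      have key : ∀ a : ↥C, orderOf a = 2 → (a : M) = r := fun a ha => by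
        refine (huniq a a.2 ?_).resolve_left fun e => ?_
        · have := congrArg Subtype.val (ha ▸ pow_orderOf_eq_one a : a ^ 2 = 1)
          simpa [pow_two] using this
        · rw [← orderOf_coe, e, orderOf_one] at ha; omega
      exact Subtype.ext ((key a ha).trans (key b hb).symm))).exists_generator
  have hCz : C = zpowers c := le_antisymm (fun x hx => by
    obtain ⟨i, hi⟩ := mem_zpowers_iff.1 (hgen ⟨x, hx⟩)
    exact mem_zpowers_iff.2 ⟨i, by simpa using congrArg Subtype.val hi⟩) (zpowers_le.2 hc)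
  subst hCz
  exact ⟨c, hCP hc, hrC, hCS, fun p hp hpc => hcen p hp fun x hx => by
    obtain ⟨i, rfl⟩ := mem_zpowers_iff.1 hx
    exact (hpc.zpow_right i).symm, huniq⟩

/-- An element of order four of the cyclic subgroup is inverted outside it. -/
theorem exists_inverted (hno : ∀ e ∈ (S : Subgroup M) ⊓ K, e * e = 1 → e ≠ 1 → e ≠ r →
      ∃ g ∈ S, g * e * g⁻¹ ≠ e ∧ g * e * g⁻¹ ≠ e * r) :
    ∃ (C : Subgroup M), ∃ i ∈ C, C ≤ (S : Subgroup M) ⊓ K ∧ r ∈ C ∧ i * i = r ∧
      (∀ x ∈ C, ∀ y ∈ C, Commute x y) ∧ (∀ g ∈ S, ∀ x ∈ C, g * x * g⁻¹ ∈ C) ∧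
      (∀ x ∈ C, x * x = 1 → x = 1 ∨ x = r) ∧ (∀ x ∈ C, x * x = r → x = i ∨ x = i * r) ∧
      (∀ p ∈ (S : Subgroup M) ⊓ K, p ∉ C → p * i * p⁻¹ = i * r) := by
  classical
  haveI : Fact (Nat.Prime 2) := ⟨Nat.prime_two⟩
  obtain ⟨c, hcP, hrC, hCS, hcen, huniq⟩ := h.exists_cyclic hno
  set C := zpowers c with hC
  have hCP : C ≤ (S : Subgroup M) ⊓ K := zpowers_le.2 hcP
  have hCc : ∀ x ∈ C, ∀ y ∈ C, Commute x y := fun x hx y hy => by
    obtain ⟨i, rfl⟩ := mem_zpowers_iff.1 hx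
    obtain ⟨j, rfl⟩ := mem_zpowers_iff.1 hy
    exact Commute.zpow_zpow_self c i j
  obtain ⟨n, hn⟩ := IsPGroup.iff_orderOf.1 (S.2.to_le inf_le_left : IsPGroup 2 ↥((S : Subgroup M) ⊓ K)) ⟨c, hcP⟩
  rw [Subgroup.orderOf_mk] at hn
  -- at least four
  have hn2 : 2 ≤ n := by
    by_contra hlt
    have hc2 : c * c = 1 := by
      rw [← pow_two, ← orderOf_dvd_iff_pow_eq_one, hn]
      exact dvd_trans (pow_dvd_pow 2 (by omega : n ≤ 1)) (by norm_num)
    have hcr : c = 1 ∨ c = r := huniq c (mem_zpowers c) hc2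
    obtain ⟨s, hsS, hsK, hs2, hsu⟩ := h.moved
    have hsC : s ∈ C := hcen s ⟨hsS, hsK⟩ (by
      rcases hcr with rfl | rfl
      · exact Commute.one_right s
      · exact h.r_comm s hsS)
    rcases huniq s hsC hs2 with rfl | rfl
    · exact hsu (Commute.one_right u)
    · exact hsu (h.r_comm u h.u_mem)
  obtain ⟨m, rfl⟩ : ∃ m, n = m + 2 := ⟨n - 2, by omega⟩
  set i := c ^ (2 ^ m) with hi
  have hiC : i ∈ C := pow_mem (mem_zpowers c) _
  have hi4 : orderOf i = 4 := by
    rw [hi, orderOf_pow, hn, Nat.gcd_eq_right (pow_dvd_pow 2 (Nat.le_add_right m 2)),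
      Nat.pow_div (Nat.le_add_right m 2) two_pos, Nat.add_sub_cancel_left]
    norm_num
  have hii : i * i = r := by
    refine (huniq (i * i) (mul_mem hiC hiC) ?_).resolve_left fun e => ?_
    · rw [← mul_assoc, show i * i * i * i = i ^ 4 by simp [pow_succ], ← hi4, pow_orderOf_eq_one]
    · have := orderOf_dvd_of_pow_eq_one (by rw [pow_two]; exact e : i ^ 2 = 1)
      rw [hi4] at this
      norm_num at this
  have hsqr : ∀ x ∈ C, x * x = r → x = i ∨ x = i * r := fun x hx hx2 => by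
    have hix : Commute i x := hCc i hiC x hx
    have h1 : i⁻¹ * x * (i⁻¹ * x) = 1 := by
      rw [(hix.symm.inv_right).mul_mul_mul_comm, hx2, ← mul_inv_rev, hii, inv_mul_cancel]
    rcases huniq (i⁻¹ * x) (mul_mem (inv_mem hiC) hx) h1 with e | e
    · exact Or.inl (inv_mul_eq_one.1 e).symm
    · exact Or.inr (inv_mul_eq_iff_eq_mul.1 e)
  have hconj_i : ∀ g ∈ S, g * i * g⁻¹ = i ∨ g * i * g⁻¹ = i * r := fun g hg =>
    hsqr _ (hCS g hg i hiC) (by
      rw [show g * i * g⁻¹ * (g * i * g⁻¹) = g * (i * i) * g⁻¹ by group, hii, (h.r_comm g hg).eq,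
        mul_inv_cancel_right])
  refine ⟨C, i, hiC, hCP, hrC, hii, hCc, hCS, huniq, hsqr, fun q hq hqC => ?_⟩
  rcases hconj_i q hq.1 with hqi | hqi
  swap
  · exact hqi
  exfalso
  -- otherwise an involution outside `C` spans an invariant four
  set X := (S : Subgroup M) ⊓ K ⊓ centralizer {i} with hX
  have hCX : C ≤ X := le_inf hCP fun x hx => mem_centralizer_singleton_iff.2 (hCc x hx i hiC).eq
  have hqX : q ∈ X := ⟨hq, mem_centralizer_singleton_iff.2 (mul_inv_eq_iff_eq_mul.1 hqi)⟩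
  obtain ⟨p, hpX, hpC, hp2, hpg⟩ := exists_central_mod (T := (S : Subgroup M)) S.2
    (inf_le_left.trans inf_le_left)
    (fun g hg => Coprime.mem_normalizer_of_conj_map_le fun x hx => hCS g hg x hx)
    (fun g hg => Coprime.mem_normalizer_of_conj_map_le fun x hx => mem_inf.2
      ⟨h.conj_mem_SK hg hx.1, mem_centralizer_singleton_iff.2 (by
        have hxi : Commute x i := mem_centralizer_singleton_iff.1 hx.2
        have hxr : Commute x r := h.r_comm x hx.1.1
        have h2 := hconj_i g⁻¹ ((S : Subgroup M).inv_mem hg)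
        rw [inv_inv] at h2
        have h3 : Commute x (g⁻¹ * i * g) := by
          rcases h2 with e | e <;> rw [e]
          exacts [hxi, hxi.mul_right hxr]
        calc g * x * g⁻¹ * i = g * (x * (g⁻¹ * i * g)) * g⁻¹ := by group
          _ = g * ((g⁻¹ * i * g) * x) * g⁻¹ := by rw [h3.eq]
          _ = i * (g * x * g⁻¹) := by group)⟩)
    (lt_of_le_of_ne hCX fun e => hqC (e ▸ hqX))
  have hpS : p ∈ S := hpX.1.1
  have hpi : Commute p i := mem_centralizer_singleton_iff.1 hpX.2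
  -- the action of `p` on `c`
  obtain ⟨α, hα⟩ := mem_zpowers_iff.1 (hCS p hpS c (mem_zpowers c))
  have hconjp : ∀ j : ℤ, p * c ^ j * p⁻¹ = c ^ (α * j) := fun j => by
    rw [← conj_zpow, ← hα, ← zpow_mul]
  have hα4 : (4 : ℤ) ∣ α - 1 := by
    have h1 := hconjp (2 ^ m : ℕ)
    rw [zpow_natCast, ← hi, hpi.eq, mul_inv_cancel_right] at h1
    have h2 : i ^ (α - 1) = 1 := by
      rw [zpow_sub, zpow_one, hi, ← zpow_natCast c, ← zpow_mul, mul_comm, zpow_natCast, ← hi]
      rw [← h1, mul_inv_cancel]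
    have := orderOf_dvd_iff_zpow_eq_one.2 h2
    rw [hi4] at this
    exact_mod_cast this
  obtain ⟨β, hβ⟩ := hα4
  have hα2 : c ^ (α * α) = c := by
    have h1 : p * p * c * (p * p)⁻¹ = c := by
      rw [(hCc _ hp2 c (mem_zpowers c)).eq, mul_inv_cancel_right]
    calc c ^ (α * α) = p * c ^ α * p⁻¹ := (hconjp α).symm
      _ = p * (p * c * p⁻¹) * p⁻¹ := by rw [hα]
      _ = c := by rw [show p * (p * c * p⁻¹) * p⁻¹ = p * p * c * (p * p)⁻¹ by group, h1]
  set d := c ^ (α - 1) with hd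
  have hdC : d ∈ C := zpow_mem (mem_zpowers c) _
  have hdd : d * d = 1 := by
    have h1 : (d * d) ^ (2 * β + 1) = 1 := by
      rw [hd, ← zpow_add, ← zpow_mul, show ((α - 1) + (α - 1)) * (2 * β + 1) = α * α - 1 by
        rw [show α = 4 * β + 1 by omega]; ring, zpow_sub, hα2, zpow_one, mul_inv_cancel]
    have h2 := orderOf_dvd_iff_zpow_eq_one.2 h1
    obtain ⟨k, hk⟩ := IsPGroup.iff_orderOf.1
      (S.2.to_le (hCP.trans inf_le_left) : IsPGroup 2 C) ⟨d * d, mul_mem hdC hdC⟩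
    rw [Subgroup.orderOf_mk] at hk
    rw [hk] at h2
    rcases k with _ | k
    · exact orderOf_eq_one_iff.1 hk
    · exfalso
      obtain ⟨l, hl⟩ := h2
      push_cast [pow_succ] at hl
      exact Int.not_even_two_mul_add_one β ⟨2 ^ k * l, by rw [hl]; ring⟩
  have hdr : d = r := by
    refine (huniq d hdC hdd).resolve_left fun e => hpC (hcen p hpX.1 ?_)
    rw [hd, zpow_sub, zpow_one, mul_inv_eq_one] at e
    rw [e] at hα
    exact mul_inv_eq_iff_eq_mul.1 hα.symm
  have hpc : ∀ j : ℤ, p * c ^ j * p⁻¹ = c ^ j * r ^ j := fun j => by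
    rw [hconjp, ← hdr, hd, ← zpow_mul, ← zpow_add]
    congr 1
    ring
  have hr_zpow : ∀ j : ℤ, (Even j → r ^ j = 1) ∧ (Odd j → r ^ j = r) := fun j => by
    refine ⟨fun ⟨l, hl⟩ => ?_, fun ⟨l, hl⟩ => ?_⟩
    · rw [hl, zpow_add, ← (Commute.refl r).mul_zpow, h.r_sq, one_zpow]
    · rw [hl, zpow_add, zpow_mul, zpow_two, h.r_sq, one_zpow, one_mul, zpow_one]
  obtain ⟨k, hk⟩ := mem_zpowers_iff.1 hp2
  obtain ⟨l, rfl⟩ : Even k := by
    by_contra hodd
    have e : p * c ^ k * p⁻¹ = c ^ k := by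
      rw [hk]; group
    rw [hpc, (hr_zpow k).2 (Int.not_even_iff_odd.1 hodd)] at e
    exact h.r_ne (mul_eq_left.1 e)
  -- an involution in the coset
  obtain ⟨j, hj⟩ : ∃ j : ℤ, c ^ (l + l + j + j) * r ^ j = 1 := by
    rcases Int.even_or_odd l with hl | hl
    · refine ⟨-l, ?_⟩
      rw [show l + l + -l + -l = (0 : ℤ) by ring, zpow_zero, one_mul, (hr_zpow _).1 hl.neg]
    · rcases Nat.eq_zero_or_pos m with hm | hm
      · exfalso
        refine hpC (hcen p hpX.1 ?_)
        have : i = c := by rw [hi, hm, pow_zero, pow_one]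
        exact this ▸ hpi
      · refine ⟨-l + (2 ^ m : ℕ), ?_⟩
        have he : Even ((2 ^ m : ℕ) : ℤ) := by
          exact_mod_cast Nat.even_pow.2 ⟨even_two, hm.ne'⟩
        rw [show l + l + (-l + ((2 ^ m : ℕ) : ℤ)) + (-l + ((2 ^ m : ℕ) : ℤ)) =
          ((2 ^ m : ℕ) : ℤ) + ((2 ^ m : ℕ) : ℤ) by ring, zpow_add, zpow_natCast, ← hi, hii,
          (hr_zpow _).2 (hl.neg.add_even he), h.r_sq]
  set e := p * c ^ j with he
  have hecj : c ^ j ∈ C := zpow_mem (mem_zpowers c) j
  have heP : e ∈ (S : Subgroup M) ⊓ K := mul_mem hpX.1 (hCP hecj)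
  have heC : e ∉ C := fun hh => hpC (by
    have := mul_mem hh (inv_mem hecj)
    rwa [he, mul_inv_cancel_right] at this)
  have hpinv : p⁻¹ * c ^ j * p = c ^ j * r ^ j := by
    have h1 : p⁻¹ * c ^ j * p = (p * p)⁻¹ * (p * c ^ j * p⁻¹) * (p * p) := by group
    rw [h1, hpc, ← hk]
    have hr' : r ^ j ∈ C := zpow_mem hrC j
    rw [(hCc _ (inv_mem (zpow_mem (mem_zpowers c) _)) _ (mul_mem hecj hr')).eq,
      inv_mul_cancel_right]
  have he2 : e * e = 1 := by
    calc e * e = (p * p) * (p⁻¹ * c ^ j * p) * c ^ j := by rw [he]; group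
      _ = c ^ (l + l) * (c ^ j * r ^ j) * c ^ j := by rw [hpinv, ← hk]
      _ = c ^ (l + l) * (c ^ j * c ^ j) * r ^ j := by
        rw [mul_assoc, mul_assoc, (hCc _ (zpow_mem hrC j) _ hecj).eq]; group
      _ = 1 := by rw [← zpow_add, ← zpow_add, ← add_assoc, hj]
  have hei : Commute e i := hpi.mul_left (hCc _ hecj i hiC)
  obtain ⟨g, hg, hg1, hg2⟩ := hno e heP he2 (fun hh => heC (hh ▸ one_mem C))
    (fun hh => heC (hh ▸ hrC))
  obtain ⟨x, hxC, hxe⟩ : ∃ x ∈ C, g * e * g⁻¹ = e * x := by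
    refine ⟨e⁻¹ * (g * e * g⁻¹), ?_, by group⟩
    rw [show e⁻¹ * (g * e * g⁻¹) =
      (c ^ j)⁻¹ * (p⁻¹ * (g * p * g⁻¹)) * (g * c ^ j * g⁻¹) by rw [he]; group]
    exact mul_mem (mul_mem (inv_mem hecj) (hpg g hg)) (hCS g hg _ hecj)
  have hex : e * x * (e * x) = 1 := by
    rw [← hxe, show g * e * g⁻¹ * (g * e * g⁻¹) = g * (e * e) * g⁻¹ by group, he2, mul_one,
      mul_inv_cancel]
  obtain ⟨k', hk'⟩ := mem_zpowers_iff.1 hxC
  have hxx : x * x = r ^ k' ∨ x * x = 1 := by
    refine Or.inl ?_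
    have h1 : e * x * e⁻¹ = x * r ^ k' := by
      rw [he, show p * c ^ j * x * (p * c ^ j)⁻¹ = p * (c ^ j * x * (c ^ j)⁻¹) * p⁻¹ by group,
        (hCc _ hecj x hxC).eq, mul_inv_cancel_right, ← hk', hpc]
    have hei' : e⁻¹ = e := inv_eq_of_mul_eq_one_right he2
    have h2 : x * r ^ k' * x = 1 := by rw [← h1, hei', mul_assoc]; exact hex
    have hrk : r ^ k' * r ^ k' = 1 := by rw [← (Commute.refl r).mul_zpow, h.r_sq, one_zpow]
    calc x * x = x * x * (r ^ k' * r ^ k') := by rw [hrk, mul_one]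
      _ = (x * r ^ k' * x) * r ^ k' := by
        rw [mul_assoc x (r ^ k'), (hCc _ (zpow_mem hrC k') x hxC).eq]; group
      _ = r ^ k' := by rw [h2, one_mul]
  have hx1 : x = 1 ∨ x = r := by
    by_cases hx2 : x * x = 1
    · exact huniq x hxC hx2
    exfalso
    have hxr : x * x = r := by
      rcases hxx with e' | e'
      · rcases Int.even_or_odd k' with hk2 | hk2
        · exact absurd (e'.trans ((hr_zpow k').1 hk2)) hx2
        · exact e'.trans ((hr_zpow k').2 hk2)
      · exact absurd e' hx2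
    have hexc : Commute e x := by
      rcases hsqr x hxC hxr with e' | e' <;> rw [e']
      exacts [hei, hei.mul_right (h.r_comm e heP.1)]
    refine hx2 ?_
    have := hex
    rw [hexc.symm.mul_mul_mul_comm, he2, one_mul] at this
    exact this
  rcases hx1 with rfl | rfl
  · exact hg1 (by rw [hxe, mul_one])
  · exact hg2 hxe

/-- Without an invariant group of order four some homomorphism of `M` kills `K` but not `u`. -/
theorem exists_hom_of_no_four (hno : ∀ e ∈ (S : Subgroup M) ⊓ K, e * e = 1 → e ≠ 1 → e ≠ r →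
      ∃ g ∈ S, g * e * g⁻¹ ≠ e ∧ g * e * g⁻¹ ≠ e * r) :
    ∃ χ : M →* ℤˣ, (∀ k ∈ K, χ k = 1) ∧ χ u ≠ 1 := by
  classical
  haveI : Fact (Nat.Prime 2) := ⟨Nat.prime_two⟩
  haveI := h.normal
  obtain ⟨C, i, hiC, hCP, hrC, hii, hCc, hCS, huniq, hsqr, hinv⟩ := h.exists_inverted hno
  have hir : i * r ≠ i := fun e => h.r_ne (mul_eq_left.1 e)
  have hcomm_out : ∀ p ∈ (S : Subgroup M) ⊓ K, p ∉ C → ¬ Commute p i := fun p hp hpC hc => hir (by
    rw [← hinv p hp hpC, hc.eq, mul_inv_cancel_right])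
  have hidx : ∀ p ∈ (S : Subgroup M) ⊓ K, ∀ q ∈ (S : Subgroup M) ⊓ K, p ∉ C → q ∉ C →
      p * q ∈ C := by
    intro p hp q hq hpC hqC
    by_contra hpq
    refine hcomm_out _ (mul_mem hp hq) hpq ?_
    have e : p * q * i * (p * q)⁻¹ = i := by
      rw [show p * q * i * (p * q)⁻¹ = p * (q * i * q⁻¹) * p⁻¹ by group, hinv q hq hqC, ← conj_mul,
        hinv p hp hpC, (h.r_comm p hp.1).eq, mul_inv_cancel_right, mul_assoc, h.r_sq, mul_one]
    exact mul_inv_eq_iff_eq_mul.1 e
  have hout : ∀ w ∈ (S : Subgroup M) ⊓ K, w * w = 1 → w ≠ 1 → w ≠ r → w ∉ C := fun w _ h2 h1 hr' hC' =>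
    (huniq w hC' h2).elim h1 hr'
  -- the centraliser of such an involution
  have hfix : ∀ w ∈ (S : Subgroup M) ⊓ K, w ∉ C → ∀ x ∈ C, Commute w x → x = 1 ∨ x = r := by
    intro w hw hwC x hx hwx
    refine huniq x hx ?_
    by_contra hx2
    obtain ⟨k, hk⟩ := IsPGroup.iff_orderOf.1
      (S.2.to_le (hCP.trans inf_le_left) : IsPGroup 2 C) ⟨x, hx⟩
    rw [Subgroup.orderOf_mk] at hk
    have hk2 : 2 ≤ k := by
      by_contra hlt
      refine hx2 ?_
      rw [← pow_two, ← orderOf_dvd_iff_pow_eq_one, hk]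
      exact dvd_trans (pow_dvd_pow 2 (by omega : k ≤ 1)) (by norm_num)
    obtain ⟨k', rfl⟩ : ∃ k', k = k' + 2 := ⟨k - 2, by omega⟩
    set y := x ^ (2 ^ k') with hy
    have hy4 : orderOf y = 4 := by
      rw [hy, orderOf_pow, hk, Nat.gcd_eq_right (pow_dvd_pow 2 (Nat.le_add_right k' 2)),
        Nat.pow_div (Nat.le_add_right k' 2) two_pos, Nat.add_sub_cancel_left]
      norm_num
    have hyy : y * y = r := by
      refine (huniq (y * y) (mul_mem (pow_mem hx _) (pow_mem hx _)) ?_).resolve_left fun e => ?_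
      · rw [← mul_assoc, show y * y * y * y = y ^ 4 by simp [pow_succ], ← hy4, pow_orderOf_eq_one]
      · have := orderOf_dvd_of_pow_eq_one (by rw [pow_two]; exact e : y ^ 2 = 1)
        rw [hy4] at this
        norm_num at this
    have hwy : Commute w y := hwx.pow_right _
    refine hcomm_out w hw hwC ?_
    rcases hsqr y (pow_mem hx _) hyy with e | e <;> rw [e] at hwy
    · exact hwy
    · have := hwy.mul_right ((h.r_comm w hw.1))
      rwa [mul_assoc, h.r_sq, mul_one] at this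
  have hcw : ∀ w ∈ (S : Subgroup M) ⊓ K, w * w = 1 → w ∉ C → ∀ p ∈ (S : Subgroup M) ⊓ K,
      Commute p w → p = 1 ∨ p = r ∨ p = w ∨ p = w * r := by
    intro w hw hw2 hwC p hp hpw
    by_cases hpC : p ∈ C
    · rcases hfix w hw hwC p hpC hpw.symm with e | e
      exacts [Or.inl e, Or.inr (Or.inl e)]
    · have h1 := hfix w hw hwC (w * p) (hidx w hw p hp hwC hpC)
        ((Commute.refl w).mul_right hpw.symm)
      have hwi : w⁻¹ = w := inv_eq_of_mul_eq_one_right hw2
      rcases h1 with e | e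
      · exact Or.inr (Or.inr (Or.inl (by rw [eq_inv_of_mul_eq_one_right e, hwi])))
      · refine Or.inr (Or.inr (Or.inr ?_))
        rw [← e, ← mul_assoc, hw2, one_mul]
  -- a reflection
  obtain ⟨s, hsS, hsK, hs2, hsu⟩ := h.moved
  have hsP : s ∈ (S : Subgroup M) ⊓ K := ⟨hsS, hsK⟩
  have hs1 : s ≠ 1 := fun e => hsu (e ▸ Commute.one_right u)
  have hsr : s ≠ r := fun e => hsu (e ▸ h.r_comm u h.u_mem)
  have hsC : s ∉ C := hout s hsP hs2 hs1 hsr
  have hsi : s⁻¹ = s := inv_eq_of_mul_eq_one_right hs2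
  have hrs : Commute r s := (h.r_comm s hsS).symm
  have hsCs : ∀ y ∈ C, s * y * s ∈ C := fun y hy => by
    have := hCS s hsS y hy
    rwa [hsi] at this
  let ψ : ↥C →* M :=
    { toFun := fun y => s * y * s * (y : M)⁻¹
      map_one' := by simp [hs2]
      map_mul' := fun y z => by
        show s * ((y : M) * z) * s * ((y : M) * z)⁻¹ = s * y * s * (y : M)⁻¹ * (s * z * s * (z : M)⁻¹)
        have e : s * ((y : M) * z) * s = s * y * s * (s * z * s) := by
          rw [show s * (y : M) * s * (s * z * s) = s * y * (s * s) * z * s by group, hs2, mul_one]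
          group
        rw [e, mul_inv_rev, show s * (y : M) * s * (s * z * s) * ((z : M)⁻¹ * (y : M)⁻¹) =
          s * y * s * ((s * z * s * (z : M)⁻¹) * (y : M)⁻¹) by group,
          (hCc _ (mul_mem (hsCs z z.2) (inv_mem z.2)) _ (inv_mem y.2)).eq]
        group }
  set I := ψ.range with hI
  have hIC : I ≤ C := by rintro _ ⟨y, rfl⟩; exact mul_mem (hsCs y y.2) (inv_mem y.2)
  have hus : u * s * u ∈ (S : Subgroup M) ⊓ K := by
    have := h.conj_mem_SK h.u_mem hsP
    rwa [h.u_inv] at this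
  have husC : u * s * u ∉ C := fun hh => hsC (by
    have := hCS u h.u_mem _ hh
    rw [h.u_inv, show u * (u * s * u) * u = (u * u) * s * (u * u) by group, h.u_sq, one_mul,
      mul_one] at this
    exact this)
  set c₀ := s * (u * s * u) with hc₀
  have hc₀C : c₀ ∈ C := hidx s hsP _ hus hsC husC
  by_cases hcase : c₀ ∈ I
  · exfalso
    obtain ⟨⟨y, hy⟩, hye⟩ := hcase
    have hye' : s * y * s * y⁻¹ = s * (u * s * u) := hye
    have husy : u * s * u = y * s * y⁻¹ := (mul_left_cancel (a := s) (by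
      rw [← hye']; group)).symm
    set n := y⁻¹ * u with hn
    have hyS : y ∈ S := (hCP hy).1
    have hnS : n ∈ S := (S : Subgroup M).mul_mem ((S : Subgroup M).inv_mem hyS) h.u_mem
    have hnK : n ∉ K := fun hh => h.u_out (by
      have := K.mul_mem (hCP hy).2 hh
      rwa [hn, mul_inv_cancel_left] at this)
    have hns : Commute n s := by
      have e : n * s * n⁻¹ = s := by
        rw [hn, show y⁻¹ * u * s * (y⁻¹ * u)⁻¹ = y⁻¹ * (u * s * u⁻¹) * y by group, h.u_inv, husy]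
        group
      exact mul_inv_eq_iff_eq_mul.1 e
    have hn2C : n * n ∈ C := by
      rw [hn, show y⁻¹ * u * (y⁻¹ * u) = y⁻¹ * (u * y⁻¹ * u⁻¹) * (u * u) by group, h.u_sq, mul_one]
      exact mul_mem (inv_mem hy) (hCS u h.u_mem _ (inv_mem hy))
    rcases hfix s hsP hsC (n * n) hn2C (hns.symm.mul_right hns.symm) with hn2 | hn2
    · exact hsr (h.one n hnK hn2 S S.2 hnS r h.r_mem s hsS h.r_K hsK h.r_sq hs2 h.r_ne hs1
        (h.r_comm n hnS) hns).symm
    set F := four r s h.r_sq hs2 hrs with hF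
    -- an element of `K` fixing `s` and moving `r`
    obtain ⟨t, htK, htr, hts⟩ : ∃ t ∈ K, t * r * t⁻¹ = s * r ∧ t * s * t⁻¹ = s := by
      obtain ⟨m, hm⟩ := h.fuse s hsK hs2 hs1
      set L := centralizer ({s} : Set M) with hL
      have hSL : ((m • S : Sylow 2 M) : Subgroup M) ≤ L := by
        rintro _ ⟨z, hz, rfl⟩
        refine mem_centralizer_singleton_iff.2 ?_
        show m * z * m⁻¹ * s = s * (m * z * m⁻¹)
        rw [← hm]
        calc m * z * m⁻¹ * (m * r * m⁻¹) = m * (z * r) * m⁻¹ := by group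
          _ = m * (r * z) * m⁻¹ := by rw [(h.r_comm z hz).eq]
          _ = m * r * m⁻¹ * (m * z * m⁻¹) := by group
      have hFL : F ≤ L := fun x hx => mem_centralizer_singleton_iff.2
        (four_comm hx (mem_four.2 (Or.inr (Or.inr (Or.inl rfl))))).eq
      obtain ⟨T, hT⟩ :=
        ((four_isPGroup : IsPGroup 2 F).comap_subtype (K := L)).exists_le_sylow
      obtain ⟨⟨k, hk⟩, hkT⟩ := MulAction.exists_smul_eq ↥L T ((m • S).subtype hSL)
      set m' := k⁻¹ * m with hm'
      have hm's : m' * r * m'⁻¹ = s := by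
        rw [hm', show k⁻¹ * m * r * (k⁻¹ * m)⁻¹ = k⁻¹ * (m * r * m⁻¹) * k by group, hm, mul_assoc,
          ← mem_centralizer_singleton_iff.1 hk, inv_mul_cancel_left]
      have hrF : r ∈ F := mem_four.2 (Or.inr (Or.inl rfl))
      have hrS : m'⁻¹ * r * m' ∈ (S : Subgroup M) := by
        have hx' : (⟨k, hk⟩ : ↥L) * ⟨r, hFL hrF⟩ * (⟨k, hk⟩ : ↥L)⁻¹ ∈
            ((m • S : Sylow 2 M) : Subgroup M).subgroupOf L := by
          show _ ∈ (((m • S).subtype hSL : Sylow 2 ↥L) : Subgroup ↥L)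
          rw [← hkT]
          exact ⟨⟨r, hFL hrF⟩, hT hrF, rfl⟩
        obtain ⟨z, hz, hze⟩ := hx'
        have hze' : m * z * m⁻¹ = k * r * k⁻¹ := hze
        rwa [show m'⁻¹ * r * m' = m⁻¹ * (k * r * k⁻¹) * m by rw [hm']; group, ← hze',
          show m⁻¹ * (m * z * m⁻¹) * m = z by group]
      set w := m'⁻¹ * r * m' with hw
      have hwP : w ∈ (S : Subgroup M) ⊓ K := ⟨hrS, by
        have := h.conj_mem_K h.r_K m'⁻¹
        rwa [inv_inv] at this⟩
      have hw2 : w * w = 1 := by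
        rw [hw, show m'⁻¹ * r * m' * (m'⁻¹ * r * m') = m'⁻¹ * (r * r) * m' by group, h.r_sq,
          mul_one, inv_mul_cancel]
      have hwC : w ∉ C := hout w hwP hw2 (fun e => h.r_ne (by
          rw [show r = m' * w * m'⁻¹ by rw [hw]; group, e, mul_one, mul_inv_cancel]))
        (fun e => hsr (by
          rw [← hm's]
          conv_lhs => rw [← e]
          rw [hw]; group))
      have hiw : i * w * i⁻¹ = r * w := by
        have e1 : w * i = i * r * w := mul_inv_eq_iff_eq_mul.1 (hinv w hwP hwC)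
        calc i * w * i⁻¹ = r * (i * r * w) * i⁻¹ := by
              rw [show r * (i * r * w) = (r * i) * r * w by group,
                ← (h.r_comm i (hCP hiC).1).eq, mul_assoc i r r, h.r_sq, mul_one]
          _ = r * w := by rw [← e1]; group
      refine ⟨m' * i * m'⁻¹, h.conj_mem_K (hCP hiC).2 m', ?_, ?_⟩
      · calc m' * i * m'⁻¹ * r * (m' * i * m'⁻¹)⁻¹ = m' * (i * w * i⁻¹) * m'⁻¹ := by
              rw [hw]; group
          _ = (m' * r * m'⁻¹) * (m' * w * m'⁻¹) := by rw [hiw]; group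
          _ = s * r := by rw [hm's, hw]; group
      · calc m' * i * m'⁻¹ * s * (m' * i * m'⁻¹)⁻¹ = m' * (i * r * i⁻¹) * m'⁻¹ := by
              rw [← hm's]; group
          _ = s := by rw [(h.r_comm i (hCP hiC).1).eq, mul_inv_cancel_right, hm's]
    set k := n⁻¹ * (t * n * t⁻¹) with hk
    have hnr : Commute n r := h.r_comm n hnS
    set H := K ⊓ centralizer (F : Set M) with hH
    have hnF : n ∈ centralizer (F : Set M) := mem_centralizer_four hnr hns
    have hkH : k ∈ H := by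
      refine mem_inf.2 ⟨?_, ?_⟩
      · rw [hk, show n⁻¹ * (t * n * t⁻¹) = (n⁻¹ * t * n) * t⁻¹ by group]
        refine K.mul_mem ?_ (K.inv_mem htK)
        simpa using h.conj_mem_K htK n⁻¹
      · have hc1 : Commute (t * n * t⁻¹) s := by
          have := hns.map (MulAut.conj t).toMonoidHom
          have e : (MulAut.conj t).toMonoidHom s = s := hts
          rwa [e] at this
        have hc2 : Commute (t * n * t⁻¹) r := by
          have := hnr.map (MulAut.conj t).toMonoidHom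
          have e : (MulAut.conj t).toMonoidHom r = s * r := htr
          rw [e] at this
          have h3 := hc1.mul_right this
          rwa [show s * (s * r) = r by rw [← mul_assoc, hs2, one_mul]] at h3
        exact mul_mem (inv_mem hnF) (mem_centralizer_four hc2 hc1)
    have hnk : n * k * (n * k) = s * r := by
      rw [hk, mul_inv_cancel_left, show t * n * t⁻¹ * (t * n * t⁻¹) = t * (n * n) * t⁻¹ by group,
        hn2, htr]
    -- the four group is a Sylow subgroup of `H`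
    have hFH : F ≤ H := fun x hx => by
      refine ⟨?_, mem_centralizer_iff.2 fun z hz => (four_comm hz hx).eq⟩
      rcases mem_four.1 hx with rfl | rfl | rfl | rfl
      exacts [one_mem _, h.r_K, hsK, mul_mem hsK h.r_K]
    set F' := F.subgroupOf H with hF'
    have hF'c : F' ≤ center ↥H := fun x hx =>
      mem_center_iff.2 fun z => Subtype.ext (mem_centralizer_iff.1 z.2.2 x hx).symm
    haveI : F'.Normal := ⟨fun z hz g => by
      rw [mem_center_iff.1 (hF'c hz) g, mul_inv_cancel_right]; exact hz⟩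
    obtain ⟨T, hT⟩ := ((four_isPGroup : IsPGroup 2 F).comap_subtype (K := H)).exists_le_sylow
    have hTF : (T : Subgroup ↥H) ≤ F' := by
      obtain ⟨g, hg⟩ := h.exists_conj_le (T.2.map H.subtype)
        ((map_subtype_le _).trans inf_le_left)
      intro x hx
      have hxP : g * x * g⁻¹ ∈ (S : Subgroup M) ⊓ K := hg ⟨x, ⟨x, hx, rfl⟩, rfl⟩
      have hFP : ∀ z ∈ F, g * z * g⁻¹ ∈ (S : Subgroup M) ⊓ K := fun z hz =>
        hg ⟨z, ⟨⟨z, hFH hz⟩, hT hz, rfl⟩, rfl⟩
      have hc' : ∀ z ∈ F, Commute (g * x * g⁻¹) (g * z * g⁻¹) := fun z hz =>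
        (Commute.map (show Commute (x : M) z from (mem_centralizer_iff.1 x.2.2 z hz).symm)
          (MulAut.conj g).toMonoidHom)
      have hinj : ∀ z z' : M, g * z * g⁻¹ = g * z' * g⁻¹ → z = z' := fun z z' e =>
        mul_left_cancel (mul_right_cancel e)
      have hrF : r ∈ F := mem_four.2 (Or.inr (Or.inl rfl))
      have hsF : s ∈ F := mem_four.2 (Or.inr (Or.inr (Or.inl rfl)))
      obtain ⟨a, b, haF, hbF, ha1, haC, hab⟩ : ∃ a b, a ∈ F ∧ b ∈ F ∧ a ≠ 1 ∧
          g * a * g⁻¹ ∉ C ∧ (b ≠ 1 ∧ b ≠ a) := by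
        have hh : ∀ a ∈ F, a ≠ 1 → g * a * g⁻¹ ∈ C → g * a * g⁻¹ = r := fun a ha ha1 hc' =>
          (huniq _ hc' (by
            rw [show g * a * g⁻¹ * (g * a * g⁻¹) = g * (a * a) * g⁻¹ by group, four_sq ha,
              mul_one, mul_inv_cancel])).resolve_left fun e => ha1 (conj_eq_one_iff.1 e)
        by_cases hr' : g * r * g⁻¹ ∈ C
        · exact ⟨s, r, hsF, hrF, hs1, fun hs' => hsr (hinj _ _
            ((hh s hsF hs1 hs').trans (hh r hrF h.r_ne hr').symm)), h.r_ne, Ne.symm hsr⟩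
        · exact ⟨r, s, hrF, hsF, h.r_ne, hr', hs1, hsr⟩
      have ha2 : g * a * g⁻¹ * (g * a * g⁻¹) = 1 := by
        rw [show g * a * g⁻¹ * (g * a * g⁻¹) = g * (a * a) * g⁻¹ by group, four_sq haF, mul_one,
          mul_inv_cancel]
      have key := hcw _ (hFP a haF) ha2 haC
      -- the image of `F` is the whole centraliser
      have hall : ∀ p, (p = 1 ∨ p = r ∨ p = g * a * g⁻¹ ∨ p = g * a * g⁻¹ * r) →
          ∃ z ∈ F, g * z * g⁻¹ = p := by
        obtain ⟨hb1, hba⟩ := hab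
        rcases key _ (hFP b hbF) ((four_comm hbF haF).map (MulAut.conj g).toMonoidHom) with
          e | e | e | e
        · exact absurd (conj_eq_one_iff.1 e) hb1
        · rintro p (rfl | rfl | rfl | rfl)
          exacts [⟨1, one_mem _, by simp⟩, ⟨b, hbF, e⟩, ⟨a, haF, rfl⟩,
            ⟨a * b, mul_mem haF hbF, by rw [← e]; group⟩]
        · exact absurd (hinj _ _ e) hba
        · rintro p (rfl | rfl | rfl | rfl)
          exacts [⟨1, one_mem _, by simp⟩, ⟨a * b, mul_mem haF hbF, by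
            rw [← conj_mul, e, ← mul_assoc, ha2, one_mul]⟩, ⟨a, haF, rfl⟩, ⟨b, hbF, e⟩]
      obtain ⟨z, hz, hze⟩ := hall _ (key _ hxP (hc' a haF))
      show (x : M) ∈ F
      rw [← hinj _ _ hze]
      exact hz
    have hodd : Odd F'.index := by
      rw [show F' = (T : Subgroup ↥H) from le_antisymm (fun z hz => hT hz) hTF]
      exact Nat.not_even_iff_odd.1 fun hh => T.not_dvd_index (even_iff_two_dvd.1 hh)
    have hrH : r ∈ H := hFH (mem_four.2 (Or.inr (Or.inl rfl)))
    have hsH : s ∈ H := hFH (mem_four.2 (Or.inr (Or.inr (Or.inl rfl))))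
    have hk'H : n⁻¹ * k * n ∈ H :=
      ⟨by simpa using h.conj_mem_K hkH.1 n⁻¹, Subgroup.mul_mem _ (Subgroup.mul_mem _ (Subgroup.inv_mem _ hnF) hkH.2) hnF⟩
    have e1 : n⁻¹ * k * n * k = s := by
      have h1 : n * n * (n⁻¹ * k * n * k) = s * r := by rw [← hnk]; group
      rw [hn2] at h1
      refine mul_left_cancel (a := r) ?_
      rw [h1, ← hrs.eq]
    obtain ⟨hmulpow, -⟩ := pow_index_hom F' hF'c ⟨_, hk'H⟩ ⟨k, hkH⟩
    obtain ⟨-, hkF⟩ := pow_index_hom F' hF'c ⟨k, hkH⟩ ⟨k, hkH⟩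
    set ℓ := F'.index with hℓ
    have h1 : (n⁻¹ * k * n * k) ^ ℓ = (n⁻¹ * k * n) ^ ℓ * k ^ ℓ := congrArg Subtype.val hmulpow
    have hkF' : k ^ ℓ ∈ F := hkF
    have hconj : (n⁻¹ * k * n) ^ ℓ = k ^ ℓ := by
      have e : n⁻¹ * k * n = n⁻¹ * k * n⁻¹⁻¹ := by rw [inv_inv]
      rw [e, conj_pow, inv_inv, mul_assoc, mem_centralizer_iff.1 hnF _ hkF', inv_mul_cancel_left]
    rw [e1, hconj, four_sq hkF'] at h1
    obtain ⟨j, hj⟩ := hodd
    rw [hj, pow_succ, pow_mul, pow_two, hs2, one_pow, one_mul] at h1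
    exact hs1 h1
  -- `u` exchanges the two classes of reflections
  have hψker : ∀ y : ↥C, ψ y = 1 ↔ (y : M) = 1 ∨ (y : M) = r := fun y => by
    refine ⟨fun hy => hfix s hsP hsC y y.2 ?_, fun hy => ?_⟩
    · have e : s * (y : M) * s * (y : M)⁻¹ = 1 := hy
      show s * (y : M) = y * s
      calc s * (y : M) = s * y * s * (y : M)⁻¹ * (y * s) := by
            rw [show s * (y : M) * s * (y : M)⁻¹ * (y * s) = s * y * (s * s) by group, hs2, mul_one]
        _ = y * s := by rw [e, one_mul]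
    · show s * (y : M) * s * (y : M)⁻¹ = 1
      rcases hy with e | e <;> rw [e]
      · simp [hs2]
      · rw [← hrs.eq, mul_assoc r s s, hs2, mul_one, mul_inv_cancel]
  have hI2 : I.relIndex C = 2 := by
    have e1 := Coprime.card_mul_relIndex' hIC
    have e2 : Nat.card ↥(ψ.ker) * Nat.card I = Nat.card C := by
      rw [hI, ← Subgroup.index_ker ψ, Subgroup.card_mul_index]
    have e3 : Nat.card ↥(ψ.ker) = 2 := by
      let e : ↥(ψ.ker) ≃ ({1, r} : Set M) :=
        { toFun := fun y => ⟨((y : ↥C) : M), by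
            rcases (hψker y).1 y.2 with e | e <;> simp [e]⟩
          invFun := fun y => ⟨⟨y, by
            rcases y.2 with e | e
            · rw [e]; exact one_mem _
            · rw [Set.mem_singleton_iff.1 e]; exact hrC⟩, (hψker _).2 (by
            rcases y.2 with e | e
            · exact Or.inl e
            · exact Or.inr e)⟩
          left_inv := fun y => rfl
          right_inv := fun y => rfl }
      rw [Nat.card_congr e, Nat.card_coe_set_eq, Set.ncard_pair (Ne.symm h.r_ne)]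
    rw [e3] at e2
    have h0 : 0 < Nat.card I := Nat.card_pos
    refine Nat.eq_of_mul_eq_mul_left h0 ?_
    rw [e1, ← e2, mul_comm]
  have hmulI : ∀ {x y}, x ∈ C → y ∈ C → (x * y ∈ I ↔ (x ∈ I ↔ y ∈ I)) := fun {x y} hx hy =>
    Subgroup.mul_mem_iff_of_index_two (H := I.subgroupOf C) hI2 (a := ⟨x, hx⟩) (b := ⟨y, hy⟩)
  -- `s` inverts `C`
  let J : Subgroup M :=
    { carrier := {x | x ∈ C ∧ s * x * s = x⁻¹}
      one_mem' := ⟨one_mem _, by simp [hs2]⟩
      mul_mem' := fun {x y} hx hy => ⟨mul_mem hx.1 hy.1, by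
        rw [show s * (x * y) * s = (s * x * s) * (s * y * s) by
          rw [show s * x * s * (s * y * s) = s * x * (s * s) * y * s by group, hs2, mul_one]
          group, hx.2, hy.2, ← mul_inv_rev, (hCc y hy.1 x hx.1).eq]⟩
      inv_mem' := fun {x} hx => ⟨inv_mem hx.1, by
        rw [inv_inv, show s * x⁻¹ * s = (s⁻¹ * x * s⁻¹)⁻¹ by group, hsi, hx.2, inv_inv]⟩ }
  have hIJ : ∀ x ∈ I, x ∈ J := by
    rintro _ ⟨⟨y, hy⟩, rfl⟩
    refine ⟨hIC ⟨⟨y, hy⟩, rfl⟩, ?_⟩
    show s * (s * y * s * y⁻¹) * s = (s * y * s * y⁻¹)⁻¹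
    rw [show s * (s * y * s * y⁻¹) * s = (s * s) * (y * (s * y⁻¹ * s)) by group, hs2, one_mul,
      mul_inv_rev, mul_inv_rev, mul_inv_rev, inv_inv, hsi]
    group
  have hc₀J : c₀ ∈ J := ⟨hc₀C, by
    rw [hc₀, mul_inv_rev, hsi, mul_inv_rev, mul_inv_rev, h.u_inv, hsi,
      show s * (s * (u * s * u)) * s = (s * s) * (u * s * u * s) by group, hs2, one_mul]
    group⟩
  have hCJ : ∀ x ∈ C, s * x * s = x⁻¹ := fun x hx => by
    suffices x ∈ J from this.2
    by_cases hxI : x ∈ I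
    · exact hIJ x hxI
    · have := (hmulI hx hc₀C).2 (iff_of_false hxI hcase)
      have hh := J.mul_mem (hIJ _ this) (J.inv_mem hc₀J)
      rwa [mul_inv_cancel_right] at hh
  have hsq_out : ∀ q ∈ (S : Subgroup M) ⊓ K, q ∉ C → q * q = 1 := by
    intro q hq hqC
    have hx := hidx s hsP q hq hsC hqC
    have e := hCJ _ hx
    have e' : q = s * (s * q) := by rw [← mul_assoc, hs2, one_mul]
    rw [e']
    rw [show s * (s * q) * (s * (s * q)) = (s * (s * q) * s) * (s * q) by group, e,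
      inv_mul_cancel]
  have hIsq : ∀ x, x ∈ I ↔ ∃ y ∈ C, x = (y * y)⁻¹ := fun x => by
    constructor
    · rintro ⟨⟨y, hy⟩, rfl⟩
      refine ⟨y, hy, ?_⟩
      show s * y * s * y⁻¹ = _
      rw [hCJ y hy, mul_inv_rev]
    · rintro ⟨y, hy, rfl⟩
      refine ⟨⟨y, hy⟩, ?_⟩
      show s * y * s * y⁻¹ = _
      rw [hCJ y hy, mul_inv_rev]
  -- the normaliser preserves `C`
  set N := normalizer (((S : Subgroup M) ⊓ K : Subgroup M) : Set M) with hN
  have hNP : ∀ g ∈ N, ∀ x ∈ (S : Subgroup M) ⊓ K, g * x * g⁻¹ ∈ (S : Subgroup M) ⊓ K :=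
    fun g hg x hx => (mem_normalizer_iff.1 hg x).1 hx
  have hNC : ∀ g ∈ N, ∀ x ∈ C, g * x * g⁻¹ ∈ C := by
    intro g hg x hx
    by_contra hgx
    have hgP := hNP g hg x (hCP hx)
    have hx2 : x * x = 1 := by
      have := hsq_out _ hgP hgx
      rw [show g * x * g⁻¹ * (g * x * g⁻¹) = g * (x * x) * g⁻¹ by group] at this
      exact conj_eq_one_iff.1 this
    rcases huniq x hx hx2 with rfl | rfl
    · exact hgx (by simp)
    refine hgx ?_
    -- a central involution of `S ⊓ K` lies in `C`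
    by_contra hout'
    refine hcomm_out _ hgP hout' ?_
    have hi' : g⁻¹ * i * g ∈ (S : Subgroup M) ⊓ K := by
      refine (mem_normalizer_iff.1 hg _).2 ?_
      rw [show g * (g⁻¹ * i * g) * g⁻¹ = i by group]
      exact hCP hiC
    have := (h.r_comm _ hi'.1).symm.map (MulAut.conj g).toMonoidHom
    simpa [mul_assoc] using this
  have hNI : ∀ g ∈ N, ∀ x ∈ C, (g * x * g⁻¹ ∈ I ↔ x ∈ I) := by
    have one_dir : ∀ g ∈ N, ∀ x ∈ I, g * x * g⁻¹ ∈ I := by
      intro g hg x hx
      obtain ⟨y, hy, rfl⟩ := (hIsq x).1 hx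
      exact (hIsq _).2 ⟨g * y * g⁻¹, hNC g hg y hy, by group⟩
    refine fun g hg x _ => ⟨fun hh => ?_, one_dir g hg x⟩
    have := one_dir g⁻¹ (inv_mem hg) _ hh
    rwa [show g⁻¹ * (g * x * g⁻¹) * g⁻¹⁻¹ = x by group] at this
  have hgs : ∀ g ∈ N, s * (g * s * g⁻¹) ∈ C := fun g hg => by
    refine hidx s hsP _ (hNP g hg s hsP) hsC fun hh => hsC ?_
    have := hNC g⁻¹ (inv_mem hg) _ hh
    rwa [show g⁻¹ * (g * s * g⁻¹) * g⁻¹⁻¹ = s by group] at this
  have hstep : ∀ g ∈ N, ∀ g' ∈ N, s * (g * g' * s * (g * g')⁻¹) =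
      s * (g * s * g⁻¹) * (g * (s * (g' * s * g'⁻¹)) * g⁻¹) := fun g _ g' _ => by
    rw [show s * (g * s * g⁻¹) * (g * (s * (g' * s * g'⁻¹)) * g⁻¹) =
      s * g * (s * s) * (g' * s * g'⁻¹) * g⁻¹ by group, hs2, mul_one]
    group
  let φ : ↥N →* ℤˣ :=
    { toFun := fun g => if s * ((g : M) * s * (g : M)⁻¹) ∈ I then 1 else -1
      map_one' := by simp [hs2]
      map_mul' := fun g g' => by
        have hg' := hgs g' g'.2
        have key : s * (((g * g' : ↥N) : M) * s * ((g * g' : ↥N) : M)⁻¹) ∈ I ↔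
            (s * ((g : M) * s * (g : M)⁻¹) ∈ I ↔ s * ((g' : M) * s * (g' : M)⁻¹) ∈ I) := by
          rw [Subgroup.coe_mul, hstep g g.2 g' g'.2,
            hmulI (hgs g g.2) (hNC g g.2 _ hg'), hNI g g.2 _ hg']
        by_cases h1 : s * ((g : M) * s * (g : M)⁻¹) ∈ I <;>
          by_cases h2 : s * ((g' : M) * s * (g' : M)⁻¹) ∈ I
        · rw [if_pos (key.2 (iff_of_true h1 h2)), if_pos h1, if_pos h2]; rfl
        · rw [if_neg (fun hh => h2 ((key.1 hh).1 h1)), if_pos h1, if_neg h2]; rfl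
        · rw [if_neg (fun hh => h1 ((key.1 hh).2 h2)), if_neg h1, if_pos h2]; rfl
        · rw [if_pos (key.2 (iff_of_false h1 h2)), if_neg h1, if_neg h2]; rfl }
  obtain ⟨χ, hχK, hχ⟩ := h.exists_hom φ fun x hx => by
    have hmem : s * ((x : M) * s * (x : M)⁻¹) ∈ I := by
      by_cases hxC : (x : M) ∈ C
      · refine ⟨⟨x, hxC⟩, ?_⟩
        show s * (x : M) * s * (x : M)⁻¹ = _
        group
      · have hy := hidx s hsP x hx hsC hxC
        have hxx := hsq_out x hx hxC
        refine (hIsq _).2 ⟨(s * (x : M))⁻¹, inv_mem hy, ?_⟩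
        rw [inv_eq_of_mul_eq_one_right hxx]
        group
    exact if_pos hmem
  have hun : u ∈ N := Coprime.mem_normalizer_of_conj_map_le fun x hx => h.conj_mem_SK h.u_mem hx
  refine ⟨χ, hχK, ?_⟩
  rw [hχ ⟨u, hun⟩]
  show (if s * (u * s * u⁻¹) ∈ I then (1 : ℤˣ) else -1) ≠ 1
  rw [if_neg (by rwa [h.u_inv])]
  decide

end Hyp

end CfsgLib.LocalEven.OnePointFront.TwoLine
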