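import Cfsg.Agent.Lib.LocalEven.OnePointFront.Nonfull.TwoLine.Four
import Cfsg.Agent.Lib.LocalEven.OnePointFront.Nonfull.TwoLine.Cyclic
import Cfsg.Agent.Lib.LocalEven.OnePointFront.FullBasic
import Cfsg.Agent.Lib.LocalEven.TIEndgame.PairCore
import Cfsg.Agent.Lib.LocalEven.TIEndgame.TransferHom

/-!
# One member on each line: contradiction

When a bad involution moves members of a maximal 2-group at its point while every involution
outside `K` commutes with at most one member in each 2-group, a homomorphism of the stabiliser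
kills the members but not the bad involution, against transfer.
-/

set_option autoImplicit false
set_option linter.style.haveILetI false

namespace CfsgLib.LocalEven.OnePointFront

open MulAction CfsgLib.LocalEven.TIEndgame

universe u v w

/-- Some homomorphism kills `K` but not `u`. -/
theorem TwoLine.Hyp.exists_hom_ne {M : Type w} [Group M] [Finite M] {K : Subgroup M} {S : Sylow 2 M}
    {u r : M} (h : TwoLine.Hyp K S u r) : ∃ χ : M →* ℤˣ, (∀ k ∈ K, χ k = 1) ∧ χ u ≠ 1 := by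
  by_cases hcen : ∃ s ∈ (S : Subgroup M) ⊓ K, s * s = 1 ∧ s ≠ 1 ∧ s ≠ r ∧
      ∀ y ∈ (S : Subgroup M) ⊓ K, Commute y s
  · obtain ⟨s, hs, hs2, hs1, hsr, hc⟩ := hcen
    exact h.exists_hom_of_central hs hs2 hs1 hsr hc
  by_cases hno : ∀ e ∈ (S : Subgroup M) ⊓ K, e * e = 1 → e ≠ 1 → e ≠ r →
      ∃ g ∈ S, g * e * g⁻¹ ≠ e ∧ g * e * g⁻¹ ≠ e * r
  · exact h.exists_hom_of_no_four hno
  push Not at hno hcen
  obtain ⟨e, he, he2, he1, her, hS⟩ := hno
  obtain ⟨t, ht, hte⟩ := hcen e he he2 he1 her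
  exact (h.false_of_four he he2 he1 her (fun g hg => by
    by_cases h1 : g * e * g⁻¹ = e
    · exact Or.inl h1
    · exact Or.inr (hS g hg h1)) ht hte).elim

variable {G : Type u} {Ω : Type v} [Group G] [Finite G] [MulAction G Ω] [Finite Ω] {D : Set G}

/-- No bad involution moves a member when lines carry one member at each point.  The hypothesis
`hone` is on all involutions of the stabiliser outside `K`. -/
theorem ClosedSetting.false_of_two_line (h : ClosedSetting D Ω)
    (hgen : Subgroup.closure D = ⊤) {a : Ω} {P : Subgroup G} (hP : IsTopTwo P a)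
    {K : Subgroup G} (hKn : stabilizer G a ≤ Subgroup.normalizer (K : Set G))
    (hKinv : ∀ d : G, orderOf d = 2 → d • a = a → (d ∈ K ↔ d ∈ D))
    {x : G} (hx : IsBad Ω x) (hxP : x ∈ P) (hmoved : ∃ d ∈ D, d ∈ P ∧ ¬ Commute x d)
    (hone : ∀ v : G, orderOf v = 2 → v ∉ K → ∀ V : Subgroup G, IsPGroup 2 V → V ≤ stabilizer G a →
      v ∈ V → ∀ d ∈ D, d ∈ V → ∀ e ∈ D, e ∈ V → Commute v d → Commute v e → d = e) : False := by
  classical
  haveI : Fact (Nat.Prime 2) := ⟨Nat.prime_two⟩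
  obtain ⟨hx2, p, p', hpp, hp, hp'⟩ := id hx
  have hxa : x • a = a := mem_stabilizer_iff.1 (hP.2.1 hxP)
  obtain ⟨b, hab, hxb⟩ : ∃ b : Ω, a ≠ b ∧ x • b = b := by
    by_cases hpa : p = a
    · exact ⟨p', fun e => hpp (hpa.trans e), hp'⟩
    · exact ⟨p, Ne.symm hpa, hp⟩
  have hxD : x ∉ D := fun hh => hab (h.fixed_unique x hh a b hxa hxb)
  obtain ⟨z, hz, hzP, hzc⟩ : ∃ z ∈ dat D a, z ∈ P ∧ ∀ y ∈ P, Commute y z := by
    obtain ⟨z, hz, hcz⟩ := h.covers a P hP.1 hP.2.1
    refine ⟨z, hz, ?_, hcz⟩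
    have h2 : IsPGroup 2 ↥(P ⊔ Subgroup.zpowers z) := by
      refine hP.1.to_sup_of_normal_left' ?_ (Subgroup.zpowers_le.2
        (Subgroup.centralizer_le_normalizer _ (Subgroup.mem_centralizer_iff.2 fun y hy =>
          (hcz y hy).eq)))
      exact IsPGroup.of_card_dvd_pow (n := 1) (by
        rw [Nat.card_zpowers, h.orderOf_eq z hz.1, pow_one])
    have := hP.2.2 _ h2 (sup_le hP.2.1 (Subgroup.zpowers_le.2 (mem_stabilizer_iff.2 hz.2)))
      le_sup_left
    rw [← this]
    exact Subgroup.mem_sup_right (Subgroup.mem_zpowers z)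
  set M := stabilizer G a with hM
  let S : Sylow 2 ↥M :=
    { toSubgroup := P.subgroupOf M
      isPGroup' := hP.1.comap_subtype
      is_maximal' := fun {V} hV hle => by
        refine le_antisymm (fun v hv => ?_) hle
        have := hP.2.2 (V.map M.subtype) (hV.map _) (Subgroup.map_subtype_le V)
          (fun y hy => ⟨⟨y, hP.2.1 hy⟩, hle hy, rfl⟩)
        exact this.le ⟨v, hv, rfl⟩ }
  have hord : ∀ d : ↥M, d * d = 1 → d ≠ 1 → orderOf (d : G) = 2 := fun d hd hd1 => by
    rw [Subgroup.orderOf_coe]; exact orderOf_eq_prime (by rw [pow_two]; exact hd) hd1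
  have hmem : ∀ d : ↥M, d ∈ K.subgroupOf M → d * d = 1 → d ≠ 1 → (d : G) ∈ D := fun d hd hd2 hd1 =>
    (hKinv d (hord d hd2 hd1) d.2).1 hd
  obtain ⟨d₀, hd₀, hd₀P, hd₀c⟩ := hmoved
  have H : TwoLine.Hyp (K.subgroupOf M) S (⟨x, hP.2.1 hxP⟩ : ↥M) ⟨z, hP.2.1 hzP⟩ := by
    refine
      { normal := ⟨fun k hk g => (Subgroup.mem_normalizer_iff.1 (hKn g.2) k).1 hk⟩
        u_mem := hxP
        u_sq := Subtype.ext (by
          show x * x = 1
          rw [← pow_two, ← hx2, pow_orderOf_eq_one])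
        u_out := fun hh => hxD ((hKinv x hx2 hxa).1 hh)
        r_mem := hzP
        r_K := (hKinv z (h.orderOf_eq z hz.1) hz.2).2 hz.1
        r_sq := Subtype.ext (h.toOnePoint.mul_self hz.1)
        r_ne := fun e => by
          have e' : z = 1 := congrArg Subtype.val e
          have := h.orderOf_eq z hz.1
          rw [e', orderOf_one] at this
          omega
        r_comm := fun y hy => Subtype.ext (hzc y hy).eq
        fuse := fun s hs hs2 hs1 => ?_
        one := fun v hv hv2 V hV hvV d hd e he hdK heK hd2 he2 hd1 he1 hvd hve => ?_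
        moved := ⟨⟨d₀, hP.2.1 hd₀P⟩, hd₀P,
          (hKinv d₀ (h.orderOf_eq d₀ hd₀) (hP.2.1 hd₀P)).2 hd₀,
          Subtype.ext (h.toOnePoint.mul_self hd₀), fun hc => hd₀c (congrArg Subtype.val hc.eq :)⟩ }
    · obtain ⟨g, hg, hge⟩ := h.toOnePoint.exists_conj_swapCore hab hz
        ⟨hmem s hs hs2 hs1, s.2⟩ (OnePoint.dat_nonempty h.covers b)
      exact ⟨⟨g, (swapCore_le a b hg).1⟩, Subtype.ext hge⟩
    · have hv1 : v ≠ 1 := fun e => hv (e ▸ one_mem _)
      refine Subtype.ext (hone v (hord v hv2 hv1) hv (V.map M.subtype) (hV.map _)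
        (Subgroup.map_subtype_le V) ⟨v, hvV, rfl⟩ d (hmem d hdK hd2 hd1) ⟨d, hd, rfl⟩ e
        (hmem e heK he2 he1) ⟨e, he, rfl⟩ (congrArg Subtype.val hvd.eq) (congrArg Subtype.val hve.eq))
  obtain ⟨χ, hχ, hne⟩ := H.exists_hom_ne
  exact h.toOnePoint.false_of_hom h.covers hgen χ
    (fun d hd => hχ d ((hKinv d (h.orderOf_eq _ hd) d.2).2 hd))
    ⟨x, hP.2.1 hxP⟩ (k := 1) (Subtype.ext (by
      rw [SubgroupClass.coe_pow, pow_one]
      show x ^ 2 = 1
      rw [← hx2, pow_orderOf_eq_one])) hne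

end CfsgLib.LocalEven.OnePointFront
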