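import Cfsg.Agent.Lib.Coprime.Action
import Mathlib.GroupTheory.Perm.Sign
import Mathlib.GroupTheory.Sylow
import Mathlib.GroupTheory.Transfer

/-!
# One member on each line: the setting

`K` is a normal subgroup of `M`, `S` a Sylow 2-subgroup, `u ∈ S` an involution outside `K`, and
`r ∈ K` an involution centralised by `S`.  All involutions of `K` are conjugate in `M` and an
involution outside `K` commutes with at most one of them in each 2-group containing it.
-/

set_option autoImplicit false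
set_option linter.style.haveILetI false

namespace CfsgLib.LocalEven.OnePointFront.TwoLine

open Subgroup

universe w

variable {M : Type w} [Group M]

/-- The standing hypothesis. -/
structure Hyp (K : Subgroup M) (S : Sylow 2 M) (u r : M) : Prop where
  normal : K.Normal
  u_mem : u ∈ S
  u_sq : u * u = 1
  u_out : u ∉ K
  r_mem : r ∈ S
  r_K : r ∈ K
  r_sq : r * r = 1
  r_ne : r ≠ 1
  r_comm : ∀ y ∈ S, Commute y r
  fuse : ∀ s ∈ K, s * s = 1 → s ≠ 1 → ∃ m : M, m * r * m⁻¹ = s
  one : ∀ v, v ∉ K → v * v = 1 → ∀ V : Subgroup M, IsPGroup 2 V → v ∈ V → ∀ d ∈ V, ∀ e ∈ V,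
    d ∈ K → e ∈ K → d * d = 1 → e * e = 1 → d ≠ 1 → e ≠ 1 → Commute v d → Commute v e → d = e
  moved : ∃ s ∈ S, s ∈ K ∧ s * s = 1 ∧ ¬ Commute u s

/-- The group `{1, r, s, s r}` of two commuting involutions. -/
def four (r s : M) (hr : r * r = 1) (hs : s * s = 1) (hc : Commute r s) : Subgroup M where
  carrier := {x | x = 1 ∨ x = r ∨ x = s ∨ x = s * r}
  one_mem' := Or.inl rfl
  mul_mem' := by
    have h1 : r * s = s * r := hc.eq
    have h2 : r * (s * r) = s := by rw [← mul_assoc, h1, mul_assoc, hr, mul_one]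
    have h3 : s * (s * r) = r := by rw [← mul_assoc, hs, one_mul]
    have h4 : s * r * r = s := by rw [mul_assoc, hr, mul_one]
    have h5 : s * r * s = r := by rw [← h1, mul_assoc, hs, mul_one]
    have h6 : s * r * (s * r) = 1 := by rw [← mul_assoc, h5, hr]
    rintro x y (rfl | rfl | rfl | rfl) (rfl | rfl | rfl | rfl) <;>
      simp only [Set.mem_setOf_eq, one_mul, mul_one, hr, hs, h1, h2, h3, h4, h5, h6,
        true_or, or_true]
  inv_mem' := by
    have h1 : r * s = s * r := hc.eq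
    have hri : r⁻¹ = r := inv_eq_of_mul_eq_one_right hr
    have hsi : s⁻¹ = s := inv_eq_of_mul_eq_one_right hs
    rintro x (rfl | rfl | rfl | rfl) <;>
      simp only [Set.mem_setOf_eq, inv_one, mul_inv_rev, hri, hsi, h1, true_or, or_true]

variable {r s : M} {hr : r * r = 1} {hs : s * s = 1} {hc : Commute r s}

theorem mem_four {x : M} : x ∈ four r s hr hs hc ↔ x = 1 ∨ x = r ∨ x = s ∨ x = s * r := Iff.rfl

theorem four_sq {x : M} (hx : x ∈ four r s hr hs hc) : x * x = 1 := by
  rcases mem_four.1 hx with rfl | rfl | rfl | rfl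
  · exact one_mul 1
  · exact hr
  · exact hs
  · rw [show s * r * (s * r) = s * (r * s) * r by group, hc.eq,
      show s * (s * r) * r = (s * s) * (r * r) by group, hs, hr, one_mul]

theorem four_comm {x y : M} (hx : x ∈ four r s hr hs hc) (hy : y ∈ four r s hr hs hc) :
    Commute x y := by
  have key : ∀ z ∈ four r s hr hs hc, z⁻¹ = z := fun z hz =>
    inv_eq_of_mul_eq_one_right (four_sq hz)
  show x * y = y * x
  rw [← key _ ((four r s hr hs hc).mul_mem hx hy), mul_inv_rev, key x hx, key y hy]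

theorem four_isPGroup : IsPGroup 2 (four r s hr hs hc) := fun x =>
  ⟨1, Subtype.ext (by simpa [pow_two] using four_sq x.2)⟩

theorem mem_centralizer_four {g : M} (hgr : Commute g r) (hgs : Commute g s) :
    g ∈ centralizer (four r s hr hs hc : Set M) := by
  refine mem_centralizer_iff.2 fun x hx => ?_
  rcases mem_four.1 hx with rfl | rfl | rfl | rfl
  · simp
  · exact hgr.eq.symm
  · exact hgs.eq.symm
  · exact (hgs.mul_right hgr).eq.symm

variable [Finite M]

/-- A group in which a central subgroup of odd index has exponent two: raising to that index is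
a homomorphism into it. -/
theorem pow_index_hom {H : Type w} [Group H] [Finite H] (F : Subgroup H)
    (hF : F ≤ center H) (x y : H) :
    (x * y) ^ F.index = x ^ F.index * y ^ F.index ∧ x ^ F.index ∈ F := by
  haveI : F.Normal := ⟨fun n hn g => by
    rw [mem_center_iff.1 (hF hn) g, mul_inv_cancel_right]; exact hn⟩
  refine ⟨?_, F.pow_index_mem x⟩
  obtain ⟨j, hj⟩ := index_dvd_of_le hF
  rw [hj, pow_mul, pow_mul, pow_mul]
  have h := congrArg Subtype.val (map_mul (MonoidHom.transferCenterPow (G := H)) x y)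
  simp only [MonoidHom.transferCenterPow_apply, Subgroup.coe_mul] at h
  rw [h]
  exact Commute.mul_pow (mem_center_iff.1 ((center H).pow_index_mem x) _).symm j

namespace Hyp

variable {K : Subgroup M} {S : Sylow 2 M} {u r : M}

section

variable (h : Hyp K S u r)
include h

omit [Finite M] in
theorem u_inv : u⁻¹ = u := inv_eq_of_mul_eq_one_right h.u_sq

omit [Finite M] in
theorem conj_mem_K {k : M} (hk : k ∈ K) (g : M) : g * k * g⁻¹ ∈ K := h.normal.conj_mem k hk g

omit [Finite M] in
theorem conj_mem_SK {x g : M} (hg : g ∈ S) (hx : x ∈ (S : Subgroup M) ⊓ K) :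
    g * x * g⁻¹ ∈ (S : Subgroup M) ⊓ K :=
  ⟨(S : Subgroup M).mul_mem ((S : Subgroup M).mul_mem hg hx.1) ((S : Subgroup M).inv_mem hg),
    h.conj_mem_K hx.2 g⟩

omit [Finite M] in
/-- The only involution of `S ⊓ K` commuting with `u` is `r`. -/
theorem eq_r {d : M} (hd : d ∈ (S : Subgroup M) ⊓ K) (hd2 : d * d = 1) (hd1 : d ≠ 1)
    (hc : Commute u d) : d = r :=
  h.one u h.u_out h.u_sq S S.2 h.u_mem d hd.1 r h.r_mem hd.2 h.r_K hd2 h.r_sq hd1 h.r_ne hc
    (h.r_comm u h.u_mem)

omit [Finite M] in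
/-- An involution of `S ⊓ K` commuting with its image under `u` is `r`, or `u` multiplies it
by `r`. -/
theorem conj_eq {s : M} (hs : s ∈ (S : Subgroup M) ⊓ K) (hs2 : s * s = 1)
    (hc : Commute s (u * s * u)) : s = 1 ∨ s = r ∨ u * s * u = s * r := by
  have hus : u * s * u ∈ (S : Subgroup M) ⊓ K := by
    have := h.conj_mem_SK h.u_mem hs
    rwa [h.u_inv] at this
  have husq : u * s * u * (u * s * u) = 1 := by
    rw [show u * s * u * (u * s * u) = u * s * (u * u) * s * u by group, h.u_sq, mul_one,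
      mul_assoc u s s, hs2, mul_one, h.u_sq]
  set d := s * (u * s * u) with hd
  have hd2 : d * d = 1 := by rw [hd, hc.symm.mul_mul_mul_comm, hs2, husq, one_mul]
  have hdu : Commute u d := by
    show u * (s * (u * s * u)) = s * (u * s * u) * u
    calc u * (s * (u * s * u)) = (u * s * u) * s * u := by group
      _ = s * (u * s * u) * u := by rw [hc.eq]
  by_cases hd1 : d = 1
  · by_cases hs1 : s = 1
    · exact Or.inl hs1
    refine Or.inr (Or.inl (h.eq_r hs hs2 hs1 ?_))
    have e : u * s * u = s := by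
      rw [← inv_eq_of_mul_eq_one_right hd1, inv_eq_of_mul_eq_one_right hs2]
    show u * s = s * u
    calc u * s = u * s * (u * u) := by rw [h.u_sq, mul_one]
      _ = u * s * u * u := by group
      _ = s * u := by rw [e]
  · refine Or.inr (Or.inr ?_)
    rw [← h.eq_r (((S : Subgroup M) ⊓ K).mul_mem hs hus) hd2 hd1 hdu, ← mul_assoc, hs2, one_mul]

omit [Finite M] in
/-- A `u`-invariant elementary subgroup of `S ⊓ K` containing `r` has order at most four. -/
theorem mem_four_of_inv {E : Subgroup M} (hE : E ≤ (S : Subgroup M) ⊓ K)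
    (hsq : ∀ x ∈ E, x * x = 1) (hu : ∀ x ∈ E, u * x * u ∈ E) {s : M} (hsE : s ∈ E) (hs1 : s ≠ 1)
    (hsr : s ≠ r) {x : M} (hx : x ∈ E) (hc : Commute r s) :
    x ∈ four r s h.r_sq (hsq s hsE) hc := by
  have hinv : ∀ z ∈ E, z⁻¹ = z := fun z hz => inv_eq_of_mul_eq_one_right (hsq z hz)
  have hcomm : ∀ y ∈ E, ∀ z ∈ E, Commute y z := fun y hy z hz => by
    show y * z = z * y
    rw [← hinv _ (E.mul_mem hy hz), mul_inv_rev, hinv y hy, hinv z hz]
  have key : ∀ y ∈ E, y = 1 ∨ y = r ∨ u * y * u = y * r := fun y hy =>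
    h.conj_eq (hE hy) (hsq y hy) (hcomm y hy _ (hu y hy))
  rcases key x hx with e | e | ex
  · exact mem_four.2 (Or.inl e)
  · exact mem_four.2 (Or.inr (Or.inl e))
  have es := ((key s hsE).resolve_left hs1).resolve_left hsr
  have hxs : u * (x * s) * u = x * s := by
    calc u * (x * s) * u = u * x * (u * u) * s * u := by rw [h.u_sq, mul_one]; group
      _ = u * x * u * (u * s * u) := by group
      _ = x * r * (s * r) := by rw [ex, es]
      _ = x * (r * s) * r := by group
      _ = x * s := by rw [hc.eq, ← mul_assoc, mul_assoc, h.r_sq, mul_one]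
  by_cases hxs1 : x * s = 1
  · refine mem_four.2 (Or.inr (Or.inr (Or.inl ?_)))
    rw [eq_inv_of_mul_eq_one_left hxs1, hinv s hsE]
  have hcu : Commute u (x * s) := by
    show u * (x * s) = x * s * u
    calc u * (x * s) = u * (x * s) * (u * u) := by rw [h.u_sq, mul_one]
      _ = u * (x * s) * u * u := by group
      _ = x * s * u := by rw [hxs]
  have e := h.eq_r (hE (E.mul_mem hx hsE)) (hsq _ (E.mul_mem hx hsE)) hxs1 hcu
  refine mem_four.2 (Or.inr (Or.inr (Or.inr ?_)))
  rw [← (hcomm x hx s hsE).symm.eq] at e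
  rw [← e, ← mul_assoc, hsq s hsE, one_mul]

theorem exists_conj_le {V : Subgroup M} (hV : IsPGroup 2 V) (hVK : V ≤ K) :
    ∃ g : M, V.map (MulAut.conj g).toMonoidHom ≤ (S : Subgroup M) ⊓ K := by
  haveI : Fact (Nat.Prime 2) := ⟨Nat.prime_two⟩
  obtain ⟨T, hT⟩ := hV.exists_le_sylow
  obtain ⟨g, hg⟩ := MulAction.exists_smul_eq M T S
  refine ⟨g, ?_⟩
  rintro _ ⟨x, hx, rfl⟩
  refine ⟨?_, h.conj_mem_K (hVK hx) g⟩
  show g * x * g⁻¹ ∈ (S : Subgroup M)
  rw [← hg]
  exact ⟨x, hT hx, rfl⟩

/-- A 2-group of `K` containing `S ⊓ K` is `S ⊓ K`. -/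
theorem maxP {V : Subgroup M} (hV : IsPGroup 2 V) (hVK : V ≤ K)
    (hPV : (S : Subgroup M) ⊓ K ≤ V) : V ≤ (S : Subgroup M) ⊓ K := by
  obtain ⟨g, hg⟩ := h.exists_conj_le hV hVK
  have hle : Nat.card V ≤ Nat.card ↥((S : Subgroup M) ⊓ K) := by
    rw [← Coprime.card_conj_map V g]; exact Subgroup.card_le_of_le hg
  exact (Subgroup.eq_of_le_of_card_ge hPV hle).ge

/-- A homomorphism of the normaliser of `S ⊓ K` to `ℤˣ` killing it extends to `M` killing `K`. -/
theorem exists_hom (φ : ↥(normalizer (((S : Subgroup M) ⊓ K : Subgroup M) : Set M)) →* ℤˣ)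
    (hP : ∀ x : ↥(normalizer (((S : Subgroup M) ⊓ K : Subgroup M) : Set M)),
      (x : M) ∈ (S : Subgroup M) ⊓ K → φ x = 1) :
    ∃ χ : M →* ℤˣ, (∀ k ∈ K, χ k = 1) ∧
      ∀ x : ↥(normalizer (((S : Subgroup M) ⊓ K : Subgroup M) : Set M)), χ (x : M) = φ x := by
  haveI : Fact (Nat.Prime 2) := ⟨Nat.prime_two⟩
  haveI := h.normal
  have hP2 : IsPGroup 2 ↥((S : Subgroup M) ⊓ K) := S.2.to_le inf_le_left
  let PK : Sylow 2 ↥K :=
    { toSubgroup := ((S : Subgroup M) ⊓ K).subgroupOf K
      isPGroup' := hP2.comap_subtype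
      is_maximal' := fun {V} hV hle => le_antisymm (fun v hv => h.maxP (hV.map K.subtype)
        (map_subtype_le V) (fun y hy => ⟨⟨y, hy.2⟩, hle hy, rfl⟩) ⟨v, hv, rfl⟩) hle }
  have htop : normalizer (((S : Subgroup M) ⊓ K : Subgroup M) : Set M) ⊔ K = ⊤ := by
    have e := Sylow.normalizer_sup_eq_top PK
    have hm : (PK : Subgroup ↥K).map K.subtype = ((S : Subgroup M) ⊓ K) := by
      show (((S : Subgroup M) ⊓ K).subgroupOf K).map K.subtype = ((S : Subgroup M) ⊓ K)
      rw [subgroupOf_map_subtype, inf_eq_left.2 inf_le_right]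
    rwa [hm] at e
  let π : ↥(normalizer (((S : Subgroup M) ⊓ K : Subgroup M) : Set M)) →* M ⧸ K := (QuotientGroup.mk' K).comp (normalizer (((S : Subgroup M) ⊓ K : Subgroup M) : Set M)).subtype
  have hπ : Function.Surjective π := by
    intro q
    obtain ⟨g, rfl⟩ := QuotientGroup.mk'_surjective K q
    have hg : g ∈ (normalizer (((S : Subgroup M) ⊓ K : Subgroup M) : Set M)) ⊔ K := by rw [htop]; exact mem_top g
    obtain ⟨k, hk, n, hn, rfl⟩ := (Coprime.mem_sup_of_le_normalizer
      (show (normalizer (((S : Subgroup M) ⊓ K : Subgroup M) : Set M)) ≤ normalizer (K : Set M) from fun g _ =>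
        Coprime.mem_normalizer_of_conj_map_le fun k hk => h.conj_mem_K hk g)).1 (sup_comm (normalizer (((S : Subgroup M) ⊓ K : Subgroup M) : Set M)) K ▸ hg)
    exact ⟨⟨n, hn⟩, by simp [π, (QuotientGroup.eq_one_iff k).2 hk]⟩
  have hker : π.ker ≤ φ.ker := by
    intro x hx
    have hxK : (x : M) ∈ K := (QuotientGroup.eq_one_iff _).1 hx
    obtain ⟨e, m, hm, he⟩ := Nat.exists_eq_two_pow_mul_odd (orderOf_pos x).ne'
    set y := x ^ m with hy
    have hy2 : y ^ 2 ^ e = 1 := by rw [hy, ← pow_mul, mul_comm, ← he, pow_orderOf_eq_one]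
    have hV : IsPGroup 2 ↥(((S : Subgroup M) ⊓ K) ⊔ zpowers (y : M)) := by
      refine hP2.to_sup_of_normal_left' ?_ (zpowers_le.2 y.2)
      exact IsPGroup.of_card_dvd_pow (n := e) (by
        rw [Nat.card_zpowers]
        exact orderOf_dvd_of_pow_eq_one (by rw [← SubgroupClass.coe_pow, hy2, OneMemClass.coe_one]))
    have hyP : (y : M) ∈ ((S : Subgroup M) ⊓ K) := h.maxP hV
      (sup_le inf_le_right (zpowers_le.2 (by rw [hy, SubgroupClass.coe_pow]; exact pow_mem hxK m)))
      le_sup_left (mem_sup_right (mem_zpowers _))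
    have h1 := hP y hyP
    rw [hy, map_pow] at h1
    obtain ⟨j, rfl⟩ := hm
    rw [pow_succ, pow_mul, Int.units_sq, one_pow, one_mul] at h1
    exact h1
  refine ⟨(π.liftOfSurjective hπ ⟨φ, hker⟩).comp (QuotientGroup.mk' K), fun k hk => ?_,
    fun x => ?_⟩
  · rw [MonoidHom.comp_apply, QuotientGroup.mk'_apply, (QuotientGroup.eq_one_iff k).2 hk, map_one]
  · exact MonoidHom.liftOfRightInverse_comp_apply π _ (Function.rightInverse_surjInv hπ) ⟨φ, hker⟩ x

end

end Hyp

end CfsgLib.LocalEven.OnePointFront.TwoLine
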