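import Cfsg.Agent.Lib.LocalEven.OnePointFront.Nonfull.TwoLine.Basic
import Cfsg.Agent.Lib.Solvable.FrattiniFitting
import Mathlib.GroupTheory.IndexNormal

/-!
# One member on each line: an invariant group of order four

If it is central in `S ⊓ K` the sign of the action on it survives in `M / K`.  Otherwise two
involutions outside `K` give an element of order three on it; acting coprimely on the centraliser
`Q` in `S` it leaves only `Q ⊓ K`, so the involution `u` would lie in `K`.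
-/

set_option autoImplicit false
set_option linter.style.haveILetI false

namespace CfsgLib.LocalEven.OnePointFront.TwoLine

open Subgroup
open scoped commutatorElement

universe w

variable {M : Type w} [Group M] [Finite M] {K : Subgroup M} {S : Sylow 2 M} {u r : M}

namespace Hyp

variable (h : Hyp K S u r)
include h

/-- The case of a second central involution in `S ⊓ K`. -/
theorem exists_hom_of_central {s : M} (hs : s ∈ (S : Subgroup M) ⊓ K) (hs2 : s * s = 1)
    (hs1 : s ≠ 1) (hsr : s ≠ r) (hcen : ∀ y ∈ (S : Subgroup M) ⊓ K, Commute y s) :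
    ∃ χ : M →* ℤˣ, (∀ k ∈ K, χ k = 1) ∧ χ u ≠ 1 := by
  classical
  let E : Subgroup M :=
    { carrier := {x | x ∈ (S : Subgroup M) ⊓ K ∧ x * x = 1 ∧ ∀ y ∈ (S : Subgroup M) ⊓ K, Commute y x}
      one_mem' := ⟨one_mem _, one_mul 1, fun y _ => Commute.one_right y⟩
      mul_mem' := fun {x y} hx hy => ⟨mul_mem hx.1 hy.1, by
          rw [(hx.2.2 y hy.1).mul_mul_mul_comm, hx.2.1, hy.2.1, one_mul],
        fun z hz => (hx.2.2 z hz).mul_right (hy.2.2 z hz)⟩
      inv_mem' := fun {x} hx => by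
        rw [inv_eq_of_mul_eq_one_right hx.2.1]; exact hx }
  have hrE : r ∈ E := ⟨⟨h.r_mem, h.r_K⟩, h.r_sq, fun y hy => h.r_comm y hy.1⟩
  have hsE : s ∈ E := ⟨hs, hs2, hcen⟩
  have hn : normalizer (((S : Subgroup M) ⊓ K : Subgroup M) : Set M) ≤ normalizer (E : Set M) := by
    intro g hg
    refine Coprime.mem_normalizer_of_conj_map_le fun x hx =>
      ⟨(mem_normalizer_iff.1 hg x).1 hx.1, ?_, fun y hy => ?_⟩
    · rw [show g * x * g⁻¹ * (g * x * g⁻¹) = g * (x * x) * g⁻¹ by group, hx.2.1, mul_one,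
        mul_inv_cancel]
    · have hy' : g⁻¹ * y * g ∈ (S : Subgroup M) ⊓ K := by
        refine (mem_normalizer_iff.1 hg _).2 ?_
        rwa [show g * (g⁻¹ * y * g) * g⁻¹ = y by group]
      show y * (g * x * g⁻¹) = g * x * g⁻¹ * y
      calc y * (g * x * g⁻¹) = g * ((g⁻¹ * y * g) * x) * g⁻¹ := by group
        _ = g * (x * (g⁻¹ * y * g)) * g⁻¹ := by rw [(hx.2.2 _ hy').eq]
        _ = g * x * g⁻¹ * y := by group
  let φ : ↥(normalizer (((S : Subgroup M) ⊓ K : Subgroup M) : Set M)) →* ℤˣ :=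
    letI := Fintype.ofFinite ↥E
    Equiv.Perm.sign.comp (({ toFun := fun f => MulEquiv.toEquiv f
                             map_one' := rfl
                             map_mul' := fun _ _ => rfl } : MulAut ↥E →* Equiv.Perm ↥E).comp
      (E.normalizerMonoidHom.comp (inclusion hn)))
  obtain ⟨χ, hχK, hχ⟩ := h.exists_hom φ (fun x hx => by
    letI := Fintype.ofFinite ↥E
    show Equiv.Perm.sign (MulEquiv.toEquiv (E.normalizerMonoidHom (inclusion hn x))) = 1
    have e : MulEquiv.toEquiv (E.normalizerMonoidHom (inclusion hn x)) = Equiv.refl ↥E := by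
      refine Equiv.ext fun y => Subtype.ext ?_
      show (x : M) * y * (x : M)⁻¹ = y
      rw [(y.2.2.2 _ hx).eq, mul_inv_cancel_right]
    rw [e]; exact map_one _)
  have hun : u ∈ normalizer (((S : Subgroup M) ⊓ K : Subgroup M) : Set M) :=
    Coprime.mem_normalizer_of_conj_map_le fun x hx => h.conj_mem_SK h.u_mem hx
  refine ⟨χ, hχK, ?_⟩
  rw [hχ ⟨u, hun⟩]
  have hus : u * s * u ∈ E := by
    have := (mem_normalizer_iff.1 (hn hun) s).1 hsE
    rwa [h.u_inv] at this
  have hse : u * s * u = s * r :=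
    ((h.conj_eq hs hs2 (hus.2.2 s hs)).resolve_left hs1).resolve_left hsr
  have hrs : Commute r s := hcen r ⟨h.r_mem, h.r_K⟩
  letI := Fintype.ofFinite ↥E
  show Equiv.Perm.sign (MulEquiv.toEquiv (E.normalizerMonoidHom (inclusion hn ⟨u, hun⟩))) ≠ 1
  have e : MulEquiv.toEquiv (E.normalizerMonoidHom (inclusion hn ⟨u, hun⟩)) =
      Equiv.swap (⟨s, hsE⟩ : ↥E) ⟨s * r, E.mul_mem hsE hrE⟩ := by
    refine Equiv.ext fun y => Subtype.ext ?_
    show u * (y : M) * u⁻¹ = _
    rw [h.u_inv]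
    have hy := h.mem_four_of_inv (E := E) (fun z hz => hz.1) (fun z hz => hz.2.1) (fun z hz => by
      have := (mem_normalizer_iff.1 (hn hun) z).1 hz
      rwa [h.u_inv] at this) hsE hs1 hsr y.2 hrs
    have h1 : ∀ z : ↥E, (z : M) ≠ s → (z : M) ≠ s * r →
        ((Equiv.swap (⟨s, hsE⟩ : ↥E) ⟨s * r, E.mul_mem hsE hrE⟩ z : ↥E) : M) = z := fun z h1 h2 => by
      rw [Equiv.swap_apply_of_ne_of_ne (fun e => h1 (congrArg Subtype.val e))
        (fun e => h2 (congrArg Subtype.val e))]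
    rcases mem_four.1 hy with e | e | e | e
    · rw [h1 y (by rw [e]; exact Ne.symm hs1) (by
        rw [e]; intro e'
        exact hsr ((eq_inv_of_mul_eq_one_left e'.symm).trans (inv_eq_of_mul_eq_one_right h.r_sq))), e,
        mul_one, h.u_sq]
    · rw [h1 y (by rw [e]; exact Ne.symm hsr) (by
        rw [e]; intro e'
        exact hs1 (mul_right_cancel (b := r) (by rw [one_mul]; exact e'.symm))), e,
        (h.r_comm u h.u_mem).eq, mul_assoc, h.u_sq, mul_one]
    · rw [show y = ⟨s, hsE⟩ from Subtype.ext e, Equiv.swap_apply_left]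
      exact hse
    · rw [show y = ⟨s * r, E.mul_mem hsE hrE⟩ from Subtype.ext e, Equiv.swap_apply_right]
      show u * (s * r) * u = s
      calc u * (s * r) * u = u * s * (r * u) := by group
        _ = u * s * (u * r) := by rw [(h.r_comm u h.u_mem).eq]
        _ = u * s * u * r := by group
        _ = s := by rw [hse, mul_assoc, h.r_sq, mul_one]
  rw [e, Equiv.Perm.sign_swap (fun e' => h.r_ne (mul_left_cancel (a := s)
    (by rw [mul_one]; exact (congrArg Subtype.val e').symm)))]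
  decide

/-- The case of an `S`-invariant group of order four not central in `S ⊓ K`. -/
theorem false_of_four {s : M} (hs : s ∈ (S : Subgroup M) ⊓ K) (hs2 : s * s = 1) (hs1 : s ≠ 1)
    (hsr : s ≠ r) (hS : ∀ g ∈ S, g * s * g⁻¹ = s ∨ g * s * g⁻¹ = s * r) {t : M}
    (ht : t ∈ (S : Subgroup M) ⊓ K) (hts : ¬ Commute t s) : False := by
  classical
  haveI : Fact (Nat.Prime 2) := ⟨Nat.prime_two⟩
  haveI := h.normal
  have hrs : Commute r s := (h.r_comm s hs.1).symm
  have hrP : r ∈ (S : Subgroup M) ⊓ K := ⟨h.r_mem, h.r_K⟩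
  have huS := h.u_mem
  have husr : u * s * u = s * r := by
    rcases hS u huS with e | e <;> rw [h.u_inv] at e
    · refine absurd (h.eq_r hs hs2 hs1 ?_) hsr
      show u * s = s * u
      calc u * s = u * s * (u * u) := by rw [h.u_sq, mul_one]
        _ = u * s * u * u := by group
        _ = s * u := by rw [e]
    · exact e
  have htsr : t * s * t⁻¹ = s * r := (hS t ht.1).resolve_left fun e => hts (by
    show t * s = s * t
    calc t * s = t * s * t⁻¹ * t := by group
      _ = s * t := by rw [e])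
  set A := four r s h.r_sq hs2 hrs with hA
  have hrA : r ∈ A := mem_four.2 (Or.inr (Or.inl rfl))
  have hsA : s ∈ A := mem_four.2 (Or.inr (Or.inr (Or.inl rfl)))
  set Q := (S : Subgroup M) ⊓ centralizer (A : Set M) with hQdef
  have hrQ : r ∈ Q := ⟨h.r_mem, mem_centralizer_four (Commute.refl r) hrs⟩
  have hsQ : s ∈ Q := ⟨hs.1, mem_centralizer_four hrs.symm (Commute.refl s)⟩
  have hQc : ∀ q ∈ Q, Commute q r ∧ Commute q s := fun q hq =>
    ⟨(mem_centralizer_iff.1 hq.2 r hrA).symm, (mem_centralizer_iff.1 hq.2 s hsA).symm⟩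
  -- `S` normalises `Q`
  have hAS : ∀ g ∈ S, ∀ x ∈ A, g * x * g⁻¹ ∈ A := by
    intro g hg x hx
    have hgr : g * r * g⁻¹ = r := by rw [(h.r_comm g hg).eq, mul_inv_cancel_right]
    have hgs : g * s * g⁻¹ ∈ A := by
      rcases hS g hg with e | e <;> rw [e]
      · exact hsA
      · exact mem_four.2 (Or.inr (Or.inr (Or.inr rfl)))
    rcases mem_four.1 hx with rfl | rfl | rfl | rfl
    · rw [mul_one, mul_inv_cancel]; exact A.one_mem
    · rw [hgr]; exact hrA
    · exact hgs
    · rw [← conj_mul, hgr]; exact A.mul_mem hgs hrA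
  have hSQ : (S : Subgroup M) ≤ normalizer (Q : Set M) := fun g hg =>
    Coprime.mem_normalizer_of_conj_map_le fun q hq =>
      ⟨(S : Subgroup M).mul_mem ((S : Subgroup M).mul_mem hg hq.1) ((S : Subgroup M).inv_mem hg),
        mem_centralizer_iff.2 fun x hx => by
          have hx' := hAS g⁻¹ ((S : Subgroup M).inv_mem hg) x hx
          rw [inv_inv] at hx'
          calc x * (g * q * g⁻¹) = g * ((g⁻¹ * x * g) * q) * g⁻¹ := by group
            _ = g * (q * (g⁻¹ * x * g)) * g⁻¹ := by rw [mem_centralizer_iff.1 hq.2 _ hx']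
            _ = g * q * g⁻¹ * x := by group⟩
  -- a 2-group centralising `A` and containing `Q` is `Q`
  have hQmax : ∀ V : Subgroup M, IsPGroup 2 V → Q ≤ V → V ≤ centralizer (A : Set M) → V ≤ Q := by
    intro V hV hQV hVA
    -- the centraliser of `A` meets `S` in a Sylow subgroup, being normalised by it
    set C := centralizer (A : Set M) with hC
    have hSC : (S : Subgroup M) ≤ normalizer (C : Set M) := fun g hg =>
      Coprime.mem_normalizer_of_conj_map_le fun q hq => mem_centralizer_iff.2 fun x hx => by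
        have hx' := hAS g⁻¹ ((S : Subgroup M).inv_mem hg) x hx
        rw [inv_inv] at hx'
        calc x * (g * q * g⁻¹) = g * ((g⁻¹ * x * g) * q) * g⁻¹ := by group
          _ = g * (q * (g⁻¹ * x * g)) * g⁻¹ := by rw [mem_centralizer_iff.1 hq _ hx']
          _ = g * q * g⁻¹ * x := by group
    set L := C ⊔ (S : Subgroup M) with hL
    haveI : (C.subgroupOf L).Normal :=
      (normal_subgroupOf_iff_le_normalizer le_sup_left).2 (sup_le le_normalizer hSC)
    obtain ⟨T, hT⟩ := (hV.comap_subtype (K := L)).exists_le_sylow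
    obtain ⟨⟨g, hg⟩, hgT⟩ := MulAction.exists_smul_eq ↥L T (S.subtype (le_sup_right : _ ≤ L))
    have hle : Nat.card V ≤ Nat.card Q := by
      rw [← Coprime.card_conj_map V g]
      refine Subgroup.card_le_of_le ?_
      rintro _ ⟨x, hx, rfl⟩
      have hxL : x ∈ L := mem_sup_left (hVA hx)
      refine ⟨?_, ?_⟩
      · have hx' : (⟨g, hg⟩ : ↥L) * ⟨x, hxL⟩ * (⟨g, hg⟩ : ↥L)⁻¹ ∈ (S : Subgroup M).subgroupOf L := by
          show _ ∈ ((S.subtype (le_sup_right : _ ≤ L) : Sylow 2 ↥L) : Subgroup ↥L)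
          rw [← hgT]
          exact ⟨⟨x, hxL⟩, hT hx, rfl⟩
        exact hx'
      · exact (mem_normalizer_iff.1 ((sup_le le_normalizer hSC) hg) x).1 (hVA hx)
    exact (Subgroup.eq_of_le_of_card_ge hQV hle).ge
  -- anything normalising `Q` normalises `A`
  let E : Subgroup M :=
    { carrier := {x | x ∈ Q ∧ x ∈ K ∧ x * x = 1 ∧ ∀ y ∈ Q, Commute y x}
      one_mem' := ⟨one_mem _, one_mem _, one_mul 1, fun y _ => Commute.one_right y⟩
      mul_mem' := fun {x y} hx hy => ⟨mul_mem hx.1 hy.1, mul_mem hx.2.1 hy.2.1, by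
          rw [(hx.2.2.2 y hy.1).mul_mul_mul_comm, hx.2.2.1, hy.2.2.1, one_mul],
        fun z hz => (hx.2.2.2 z hz).mul_right (hy.2.2.2 z hz)⟩
      inv_mem' := fun {x} hx => by
        rw [inv_eq_of_mul_eq_one_right hx.2.2.1]; exact hx }
  have hAE : ∀ x ∈ A, x ∈ E := fun x hx => by
    refine ⟨?_, ?_, four_sq hx, fun y hy => (mem_centralizer_iff.1 hy.2 x hx).symm⟩
    · exact ⟨by
        rcases mem_four.1 hx with rfl | rfl | rfl | rfl
        · exact one_mem _
        · exact h.r_mem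
        · exact hs.1
        · exact mul_mem hs.1 h.r_mem, mem_centralizer_iff.2 fun y hy => (four_comm hy hx).eq⟩
    · rcases mem_four.1 hx with rfl | rfl | rfl | rfl
      · exact one_mem _
      · exact h.r_K
      · exact hs.2
      · exact mul_mem hs.2 h.r_K
  have hNE : ∀ g ∈ normalizer (Q : Set M), ∀ x ∈ E, g * x * g⁻¹ ∈ E := fun g hg x hx => by
    refine ⟨(mem_normalizer_iff.1 hg x).1 hx.1, h.conj_mem_K hx.2.1 g, ?_, fun y hy => ?_⟩
    · rw [show g * x * g⁻¹ * (g * x * g⁻¹) = g * (x * x) * g⁻¹ by group, hx.2.2.1, mul_one,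
        mul_inv_cancel]
    · have hy' : g⁻¹ * y * g ∈ Q := by
        refine (mem_normalizer_iff.1 hg _).2 ?_
        rwa [show g * (g⁻¹ * y * g) * g⁻¹ = y by group]
      show y * (g * x * g⁻¹) = g * x * g⁻¹ * y
      calc y * (g * x * g⁻¹) = g * ((g⁻¹ * y * g) * x) * g⁻¹ := by group
        _ = g * (x * (g⁻¹ * y * g)) * g⁻¹ := by rw [(hx.2.2.2 _ hy').eq]
        _ = g * x * g⁻¹ * y := by group
  have hEA : ∀ x ∈ E, x ∈ A := fun x hx =>
    h.mem_four_of_inv (E := E) (fun z hz => ⟨hz.1.1, hz.2.1⟩) (fun z hz => hz.2.2.1) (fun z hz => by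
      have := hNE u (hSQ huS) z hz
      rwa [h.u_inv] at this) (hAE s hsA) hs1 hsr hx hrs
  have hNA : ∀ g ∈ normalizer (Q : Set M), ∀ x ∈ A, g * x * g⁻¹ ∈ A := fun g hg x hx =>
    hEA _ (hNE g hg x (hAE x hx))
  -- a Sylow subgroup having `s` at the centre
  obtain ⟨m, hm, hQS'⟩ : ∃ m : M, m * r * m⁻¹ = s ∧
      ∀ q ∈ Q, m⁻¹ * q * m ∈ (S : Subgroup M) := by
    obtain ⟨m, hm⟩ := h.fuse s hs.2 hs2 hs1
    set L := centralizer ({s} : Set M) with hL
    have hSL : (S : Subgroup M).map (MulAut.conj m).toMonoidHom ≤ L := by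
      rintro _ ⟨y, hy, rfl⟩
      refine mem_centralizer_singleton_iff.2 ?_
      show m * y * m⁻¹ * s = s * (m * y * m⁻¹)
      rw [← hm]
      calc m * y * m⁻¹ * (m * r * m⁻¹) = m * (y * r) * m⁻¹ := by group
        _ = m * (r * y) * m⁻¹ := by rw [(h.r_comm y hy).eq]
        _ = m * r * m⁻¹ * (m * y * m⁻¹) := by group
    have hQL : Q ≤ L := fun q hq => mem_centralizer_singleton_iff.2 (hQc q hq).2.eq
    obtain ⟨T, hT⟩ := ((S.2.to_le inf_le_left : IsPGroup 2 Q).comap_subtype (K := L)).exists_le_sylow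
    have hT2 : (S : Subgroup M).map (MulAut.conj m).toMonoidHom =
        ((m • S : Sylow 2 M) : Subgroup M) := rfl
    have hTL : ((m • S : Sylow 2 M) : Subgroup M) ≤ L := hT2 ▸ hSL
    obtain ⟨⟨c, hc⟩, hcT⟩ := MulAction.exists_smul_eq ↥L T ((m • S).subtype hTL)
    refine ⟨c⁻¹ * m, ?_, fun q hq => ?_⟩
    · calc c⁻¹ * m * r * (c⁻¹ * m)⁻¹ = c⁻¹ * (m * r * m⁻¹) * c := by group
        _ = c⁻¹ * (c * s) := by rw [hm, mul_assoc, (mem_centralizer_singleton_iff.1 hc).symm]
        _ = s := inv_mul_cancel_left c s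
    · have hx' : (⟨c, hc⟩ : ↥L) * ⟨q, hQL hq⟩ * (⟨c, hc⟩ : ↥L)⁻¹ ∈
          ((m • S : Sylow 2 M) : Subgroup M).subgroupOf L := by
        show _ ∈ (((m • S).subtype hTL : Sylow 2 ↥L) : Subgroup ↥L)
        rw [← hcT]
        exact ⟨⟨q, hQL hq⟩, hT hq, rfl⟩
      obtain ⟨y, hy, hye⟩ := (show c * q * c⁻¹ ∈ (S : Subgroup M).map (MulAut.conj m).toMonoidHom
        from hx')
      have hye' : m * y * m⁻¹ = c * q * c⁻¹ := hye
      rwa [show (c⁻¹ * m)⁻¹ * q * (c⁻¹ * m) = m⁻¹ * (c * q * c⁻¹) * m by group, ← hye',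
        show m⁻¹ * (m * y * m⁻¹) * m = y by group]
  -- an element of `K` normalising `Q`, fixing `s` and moving `r`
  obtain ⟨k₀, hkK, hkQ, hks, hkr⟩ : ∃ k₀ ∈ K, k₀ ∈ normalizer (Q : Set M) ∧
      k₀ * s * k₀⁻¹ = s ∧ k₀ * r * k₀⁻¹ ≠ r := by
    set S' := (S : Subgroup M).map (MulAut.conj m).toMonoidHom with hS'def
    have hQS : Q ≤ S' := fun q hq =>
      ⟨m⁻¹ * q * m, hQS' q hq, show m * (m⁻¹ * q * m) * m⁻¹ = q by group⟩
    have hsS' : ∀ y ∈ S', y * s * y⁻¹ = s := by
      rintro _ ⟨y, hy, rfl⟩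
      show m * y * m⁻¹ * s * (m * y * m⁻¹)⁻¹ = s
      rw [← hm]
      calc m * y * m⁻¹ * (m * r * m⁻¹) * (m * y * m⁻¹)⁻¹ = m * (y * r * y⁻¹) * m⁻¹ := by group
        _ = m * r * m⁻¹ := by rw [(h.r_comm y hy).eq, mul_inv_cancel_right]
    -- `Q` has index two in `S`, so in `S'`
    have hrel : Q.relIndex (S : Subgroup M) = 2 := by
      refine Subgroup.index_eq_two_iff.2 ⟨⟨u, huS⟩, fun y => ?_⟩
      have hiff : ∀ z ∈ S, z ∈ Q ↔ z * s * z⁻¹ = s := fun z hz => by
        constructor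
        · intro hzQ; rw [(hQc z hzQ).2.eq, mul_inv_cancel_right]
        · intro e
          refine ⟨hz, mem_centralizer_four (h.r_comm z hz) ?_⟩
          show z * s = s * z
          calc z * s = z * s * z⁻¹ * z := by group
            _ = s * z := by rw [e]
      show Xor ((y : M) * u ∈ Q) ((y : M) ∈ Q)
      have hyu : (y : M) * u * s * ((y : M) * u)⁻¹ = (y : M) * s * (y : M)⁻¹ * r := by
        calc (y : M) * u * s * ((y : M) * u)⁻¹ = (y : M) * (u * s * u⁻¹) * (y : M)⁻¹ := by group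
          _ = (y : M) * s * (r * (y : M)⁻¹) := by rw [h.u_inv, husr]; group
          _ = (y : M) * s * (y : M)⁻¹ * r := by
            rw [← ((h.r_comm y y.2).inv_left).eq]; group
      rcases hS y y.2 with e | e
      · refine Or.inr ⟨(hiff y y.2).2 e, fun hq => h.r_ne ?_⟩
        have := (hiff _ (mul_mem y.2 huS)).1 hq
        rw [hyu, e] at this
        exact mul_left_cancel (a := s) (by rw [this, mul_one])
      · refine Or.inl ⟨(hiff _ (mul_mem y.2 huS)).2 (by rw [hyu, e, mul_assoc, h.r_sq, mul_one]),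
          fun hq => h.r_ne (mul_left_cancel (a := s) ?_)⟩
        rw [← e, (hiff y y.2).1 hq, mul_one]
    have hS'c : Nat.card S' = Nat.card (S : Subgroup M) := Coprime.card_conj_map _ m
    have hrel' : Q.relIndex S' = 2 := by
      have e1 := Coprime.card_mul_relIndex' hQS
      have e2 := Coprime.card_mul_relIndex' (inf_le_left : Q ≤ (S : Subgroup M))
      rw [hrel] at e2
      rw [hS'c, ← e2] at e1
      exact Nat.eq_of_mul_eq_mul_left Nat.card_pos e1
    haveI : (Q.subgroupOf S').Normal := Subgroup.normal_of_index_eq_two hrel'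
    have hS'Q : S' ≤ normalizer (Q : Set M) := (normal_subgroupOf_iff_le_normalizer hQS).1 ‹_›
    -- the part in `K` is not inside `Q`
    by_contra hnone
    push Not at hnone
    set P' := ((S : Subgroup M) ⊓ K).map (MulAut.conj m).toMonoidHom with hP'
    have hP'S : P' ≤ S' := map_mono inf_le_left
    have hP'K : P' ≤ K := by
      rintro _ ⟨y, hy, rfl⟩; exact h.conj_mem_K hy.2 m
    have hP'Q : P' ≤ Q := by
      intro y hy
      have h1 : Q ⊔ zpowers y ≤ centralizer (A : Set M) := by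
        refine sup_le inf_le_right (zpowers_le.2 (mem_centralizer_four ?_ ?_))
        · show y * r = r * y
          calc y * r = y * r * y⁻¹ * y := by group
            _ = r * y := by rw [hnone y (hP'K hy) (hS'Q (hP'S hy)) (hsS' y (hP'S hy))]
        · show y * s = s * y
          calc y * s = y * s * y⁻¹ * y := by group
            _ = s * y := by rw [hsS' y (hP'S hy)]
      exact hQmax _ ((S.2.map _).to_le (sup_le hQS (zpowers_le.2 (hP'S hy)))) le_sup_left h1
        (mem_sup_right (mem_zpowers y))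
    have hle : P' ≤ Q ⊓ K := le_inf hP'Q hP'K
    have hcard : Nat.card P' = Nat.card ↥((S : Subgroup M) ⊓ K) := Coprime.card_conj_map _ m
    have he : Q ⊓ K = (S : Subgroup M) ⊓ K :=
      Subgroup.eq_of_le_of_card_ge (inf_le_inf_right K inf_le_left)
        (hcard ▸ Subgroup.card_le_of_le hle)
    exact hts (hQc t (he.symm ▸ ht : t ∈ Q ⊓ K).1).2
  -- a three-cycle on `A`, inverted by `u`
  have hkr' : k₀ * r * k₀⁻¹ = s * r := by
    have hin := hNA k₀ hkQ r hrA
    rcases mem_four.1 hin with e | e | e | e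
    · exact absurd (conj_eq_one_iff.1 e) h.r_ne
    · exact absurd e hkr
    · refine absurd (mul_left_cancel (mul_right_cancel (e.trans hks.symm))) (Ne.symm hsr)
    · exact e
  set c := u * k₀ * u * k₀⁻¹ with hcdef
  have hcK : c ∈ K := by
    refine K.mul_mem ?_ (K.inv_mem hkK)
    have := h.conj_mem_K hkK u
    rwa [h.u_inv] at this
  have hcQ : c ∈ normalizer (Q : Set M) :=
    mul_mem (mul_mem (mul_mem (hSQ huS) hkQ) (hSQ huS)) (inv_mem hkQ)
  have hur : u * r * u⁻¹ = r := by rw [(h.r_comm u huS).eq, mul_inv_cancel_right]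
  have hus : u * s * u⁻¹ = s * r := by rw [h.u_inv]; exact husr
  have husr' : u * (s * r) * u⁻¹ = s := by
    rw [← conj_mul, hus, hur, mul_assoc, h.r_sq, mul_one]
  have hksr : k₀ * (s * r) * k₀⁻¹ = r := by
    rw [← conj_mul, hks, hkr', ← mul_assoc, hs2, one_mul]
  have hkinv : ∀ x y, k₀ * x * k₀⁻¹ = y → k₀⁻¹ * y * k₀⁻¹⁻¹ = x := fun x y e => by
    rw [← e]; group
  have conjc : ∀ x : M, c * x * c⁻¹ =
      u * (k₀ * (u * (k₀⁻¹ * x * k₀⁻¹⁻¹) * u⁻¹) * k₀⁻¹) * u⁻¹ := fun x => by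
    rw [hcdef]; group
  have hcr : c * r * c⁻¹ = r * 1 → False := by
    rw [conjc, hkinv _ _ hksr, husr', hks, hus, mul_one]
    exact fun e => hs1 (mul_right_cancel (b := r) (by rw [e, one_mul]))
  have huc : u * c * u⁻¹ = c⁻¹ := by
    rw [hcdef, mul_inv_rev, mul_inv_rev, mul_inv_rev, inv_inv, h.u_inv]
    calc u * (u * k₀ * u * k₀⁻¹) * u = (u * u) * k₀ * u * k₀⁻¹ * u := by group
      _ = k₀ * (u * (k₀⁻¹ * u)) := by rw [h.u_sq]; group
  -- `c` cubed fixes `r`, so some power of odd order moves it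
  have hc3 : c ^ 3 * r * (c ^ 3)⁻¹ = r := by
    have e1 : c * r * c⁻¹ = s * r := by
      rw [conjc, hkinv _ _ hksr, husr', hks, hus]
    have e2 : c * (s * r) * c⁻¹ = s := by
      rw [conjc, hkinv _ _ hkr', hur, hkr', husr']
    have e3 : c * s * c⁻¹ = r := by
      rw [conjc, hkinv _ _ hks, hus, hksr, hur]
    calc c ^ 3 * r * (c ^ 3)⁻¹ = c * (c * (c * r * c⁻¹) * c⁻¹) * c⁻¹ := by
          rw [pow_succ, pow_succ, pow_one]; group
      _ = r := by rw [e1, e2, e3]
  obtain ⟨e₀, n, hn, hon⟩ := Nat.exists_eq_two_pow_mul_odd (orderOf_pos c).ne'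
  set g := c ^ 2 ^ e₀ with hg
  have hgodd : Odd (orderOf g) := by
    refine Odd.of_dvd_nat hn (orderOf_dvd_of_pow_eq_one ?_)
    rw [hg, ← pow_mul, ← hon, pow_orderOf_eq_one]
  have hgr : ¬ Commute g r := by
    intro hg'
    -- `2 ^ e₀` and `3` are coprime
    have hco : Nat.gcd (2 ^ e₀) 3 = 1 := Nat.Coprime.pow_left _ (by norm_num)
    have h3 : Commute (c ^ 3) r := by
      show c ^ 3 * r = r * c ^ 3
      calc c ^ 3 * r = c ^ 3 * r * (c ^ 3)⁻¹ * c ^ 3 := by group
        _ = r * c ^ 3 := by rw [hc3]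
    have hb := Nat.gcd_eq_gcd_ab (2 ^ e₀) 3
    rw [hco, Nat.cast_one] at hb
    have hc1 : Commute c r := by
      rw [show c = c ^ (1 : ℤ) by rw [zpow_one], hb, zpow_add, zpow_mul, zpow_mul, zpow_natCast,
        zpow_natCast]
      exact (hg'.zpow_left _).mul_left (h3.zpow_left _)
    exact hcr (by rw [mul_one, hc1.eq, mul_inv_cancel_right])
  have hgK : g ∈ K := pow_mem hcK _
  have hgQ : zpowers g ≤ normalizer (Q : Set M) := zpowers_le.2 (pow_mem hcQ _)
  have hcop : (Nat.card ↥(zpowers g)).Coprime (Nat.card Q) := by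
    obtain ⟨l, hl⟩ := (S.2.to_le inf_le_left : IsPGroup 2 Q).exists_card_eq
    rw [Nat.card_zpowers, hl]
    exact (Nat.coprime_two_right.2 hgodd).pow_right l
  have hdec := Coprime.commutator_sup_centralizer hgQ hcop (Or.inl (Coprime.isSolvable_zpowers g))
  have hfix : Q ⊓ centralizer (zpowers g : Set M) = ⊥ := by
    by_contra hne
    set F := Q ⊓ centralizer (zpowers g : Set M) with hF
    have hFu : ∀ x ∈ F, u * x * u⁻¹ ∈ F := by
      rintro x ⟨hxQ, hxg⟩
      refine ⟨(mem_normalizer_iff.1 (hSQ huS) x).1 hxQ, mem_centralizer_iff.2 fun y hy => ?_⟩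
      have hug : u * g * u⁻¹ = g⁻¹ := by rw [hg, ← conj_pow, huc, inv_pow]
      have hxg' : Commute x g := (mem_centralizer_iff.1 hxg g (mem_zpowers g)).symm
      have h1 : Commute (u * x * u⁻¹) (u * g * u⁻¹) := hxg'.map (MulAut.conj u).toMonoidHom
      rw [hug] at h1
      obtain ⟨i, rfl⟩ := mem_zpowers_iff.1 hy
      exact ((Commute.inv_right_iff.1 h1).zpow_right i).eq.symm
    have hF2 : IsPGroup 2 ↥(F ⊔ zpowers u) :=
      S.2.to_le (sup_le (inf_le_left.trans inf_le_left) (zpowers_le.2 huS))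
    have hsupne : F ⊔ zpowers u ≠ ⊥ := fun e => hne (eq_bot_iff.2 (e ▸ le_sup_left))
    haveI : (F.subgroupOf (F ⊔ zpowers u)).Normal :=
      (normal_subgroupOf_iff_le_normalizer le_sup_left).2 (sup_le le_normalizer (zpowers_le.2
        (Coprime.mem_normalizer_of_conj_map_le hFu)))
    haveI : Group.IsNilpotent ↥(F ⊔ zpowers u) := hF2.isNilpotent
    have hne' : F.subgroupOf (F ⊔ zpowers u) ≠ ⊥ := fun e => hne (by
      rw [← inf_eq_left.2 (le_sup_left : F ≤ F ⊔ zpowers u), ← subgroupOf_map_subtype, e, Subgroup.map_bot])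
    set Z := F.subgroupOf (F ⊔ zpowers u) ⊓ center ↥(F ⊔ zpowers u) with hZ
    have hZne : Z ≠ ⊥ := CfsgLib.Solvable.FrattiniFitting.inf_center_ne_bot _ hne'
    obtain ⟨z, hz⟩ := exists_prime_orderOf_dvd_card' (G := ↥Z) 2
      ((((hF2.to_subgroup Z).card_eq_or_dvd).resolve_left fun e => hZne (eq_bot_of_card_eq Z e)))
    set d : M := ((z : ↥(F ⊔ zpowers u)) : M) with hd
    have hd2' : orderOf d = 2 := by rw [hd, Subgroup.orderOf_coe, Subgroup.orderOf_coe, hz]
    have hd2 : d * d = 1 := by rw [← pow_two, ← hd2', pow_orderOf_eq_one]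
    have hd1 : d ≠ 1 := fun e => by rw [e, orderOf_one] at hd2'; omega
    have hdF : d ∈ F := z.2.1
    have hdu : Commute u d :=
      congrArg Subtype.val (mem_center_iff.1 z.2.2 ⟨u, mem_sup_right (mem_zpowers u)⟩)
    by_cases hdK : d ∈ K
    · have e := h.eq_r ⟨hdF.1.1, hdK⟩ hd2 hd1 hdu
      refine hgr ?_
      have := mem_centralizer_iff.1 hdF.2 g (mem_zpowers g)
      rw [e] at this
      exact this
    · exact hsr.symm (h.one d hdK hd2 Q (S.2.to_le inf_le_left) hdF.1 r hrQ s hsQ h.r_K hs.2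
        h.r_sq hs2 h.r_ne hs1 (hQc d hdF.1).1 (hQc d hdF.1).2)
  rw [hfix, sup_bot_eq] at hdec
  have hQK : Q ≤ K := by
    rw [← hdec]
    refine commutator_le.2 fun q _ y hy => ?_
    have hy' : y ∈ K := zpowers_le.2 hgK hy
    rw [commutatorElement_def]
    exact K.mul_mem (h.conj_mem_K hy' q) (K.inv_mem hy')
  -- `u t` centralises `A`
  refine h.u_out ?_
  have hut : u * t ∈ Q := by
    refine ⟨mul_mem huS ht.1, mem_centralizer_four (h.r_comm _ (mul_mem huS ht.1)) ?_⟩
    show u * t * s = s * (u * t)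
    calc u * t * s = u * (t * s * t⁻¹) * t := by group
      _ = u * (s * r) * u⁻¹ * (u * t) := by rw [htsr]; group
      _ = s * (u * t) := by rw [husr']
  have := K.mul_mem (hQK hut) (K.inv_mem ht.2)
  rwa [mul_inv_cancel_right] at this

end Hyp

end CfsgLib.LocalEven.OnePointFront.TwoLine
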